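import Cfsg.Agent.H899.Cyc.CycOut
import Cfsg.Agent.H947.Cyc.Basic_m3
import Cfsg.Agent.H954.TSing5
import Mathlib.GroupTheory.Transfer
import Mathlib.GroupTheory.Subgroup.Simple
import Mathlib.Tactic
import Cfsg.Agent.Solvable.UniqueOrderP
import Cfsg.Agent.H955.QSpace
import Cfsg.Agent.H884.CgOrth
import Cfsg.Agent.H884.ElO8
import Cfsg.Agent.FastGrp
import Cfsg.Agent.Prune
set_option linter.all false

section
prune_inst 0x7ffcfffbabf8bddeffff7e7faef4dffdddbdffffe6dffdcb3fe0a9ff8bff4b104bc5fba70ff010fe1fd7e21494f87b53fdffeeffe363dc7ffffd5ff41ffbffdffffeb50911d498340f340ffe93f0778e7f3fffffffffffffffffffffffffffbeffbfffffffff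

-- part: H899/Cyc/Fac
section
set_option linter.all false
open scoped Cfsg.Agent.FastGrp

/-!
# Factorizations `T = A B` with `A ≅ S^l`, `l ≥ 2` (helper899, S3679)

* `Fac T A B S l` : `A ≅ S^l`, `l ≥ 2`, `B ≠ ⊤`, every element of `T` is a product `x y`, `x ∈ A`, `y ∈ B`;
* `NoFac T` : no such factorization with `B` a coatom, `S` simple non-abelian (`S : Type`, `T : Type`);
* `Fac.mono`, `Fac.congr`, `Fac.index_dvd`, `Fac.not_dvd`, `Fac.pow_dvd`, `Fac.not_iGap`, `Fac.conj`, `Fac.exists_hom`;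
* `noFac_of_iGap`, `noFac_iff`, `NoFac.congr`.
-/

set_option autoImplicit false

namespace Cfsg.Agent.H899.CG

open Subgroup Cfsg.Agent.H436

/-- a factorization `T = A B` with `A ≅ S^l`, `l ≥ 2`, and `B` proper -/
structure Fac (T : Type*) [Group T] (A B : Subgroup T) (S : Type*) [Group S] (l : ℕ) : Prop where
  two_le : 2 ≤ l
  iso : Nonempty (A ≃* (Fin l → S))
  ne_top : B ≠ ⊤
  fac : ∀ t : T, ∃ x ∈ A, ∃ y ∈ B, t = x * y

/-- `T` has no factorization `T = A M`, `A ≅ S^l`, `l ≥ 2`, `S` non-abelian simple, `M` a coatom -/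
def NoFac (T : Type) [Group T] : Prop :=
  ∀ (S : Type) [Group S] [Finite S], IsSimpleGroup S → (¬ IsMulCommutative S) →
    ∀ (A M : Subgroup T) (l : ℕ), IsCoatom M → ¬ Fac T A M S l

section basic

variable {T : Type*} [Group T] {A B M : Subgroup T} {S : Type*} [Group S] {l : ℕ}

theorem Fac.mono (h : Fac T A B S l) (hBM : B ≤ M) (hM : M ≠ ⊤) : Fac T A M S l :=
  ⟨h.two_le, h.iso, hM, fun t => by
    obtain ⟨x, hx, y, hy, ht⟩ := h.fac t
    exact ⟨x, hx, y, hBM hy, ht⟩⟩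

theorem Fac.card_eq [Finite S] (h : Fac T A B S l) : Nat.card A = Nat.card S ^ l := by
  obtain ⟨e⟩ := h.iso
  rw [Nat.card_congr e.toEquiv, Nat.card_pi]
  simp only [Finset.prod_const, Finset.card_univ, Fintype.card_fin]

theorem Fac.index_dvd_card (h : Fac T A B S l) : B.index ∣ Nat.card A := card_dvd_mul_of_fac h.fac

theorem Fac.index_dvd [Finite S] (h : Fac T A B S l) : B.index ∣ Nat.card S ^ l := by
  rw [← h.card_eq]
  exact h.index_dvd_card

theorem Fac.pow_dvd_card [Finite S] (h : Fac T A B S l) : Nat.card S ^ l ∣ Nat.card T := by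
  rw [← h.card_eq]
  exact A.card_subgroup_dvd_card

/-- the order of `T` in terms of `A`, `B` and the intersection -/
theorem Fac.card_mul [Finite T] (h : Fac T A B S l) :
    Nat.card T * Nat.card (A ⊓ B : Subgroup T) = Nat.card A * Nat.card B := by
  have h3 : (B.subgroupOf A).index = B.index := by
    have h4 : MulAction.orbit A ((1 : T) : T ⧸ B) = Set.univ := by
      ext z
      simp only [Set.mem_univ, iff_true]
      induction z using QuotientGroup.induction_on with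
      | H t =>
        obtain ⟨x, hx, y, hy, rfl⟩ := h.fac t
        refine ⟨⟨x, hx⟩, ?_⟩
        show ((x • (1 : T) : T) : T ⧸ B) = _
        rw [smul_eq_mul, mul_one]
        exact QuotientGroup.eq.mpr (by simpa using hy)
    have h5 : MulAction.stabilizer A ((1 : T) : T ⧸ B) = B.subgroupOf A := by
      ext a
      rw [MulAction.mem_stabilizer_iff, Subgroup.mem_subgroupOf]
      show (((a : T) • (1 : T) : T) : T ⧸ B) = _ ↔ _
      rw [smul_eq_mul, mul_one, eq_comm, QuotientGroup.eq, inv_one, one_mul]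
    rw [← h5, MulAction.index_stabilizer, h4, Set.ncard_univ]
    rfl
  have h6 := Subgroup.card_mul_index (B.subgroupOf A)
  have h7 : Nat.card (B.subgroupOf A) = Nat.card (A ⊓ B : Subgroup T) := by
    have h8 : (B.subgroupOf A).map A.subtype = A ⊓ B := by
      rw [Subgroup.subgroupOf_map_subtype, inf_comm]
    rw [← h8, Subgroup.card_map_of_injective A.subtype_injective]
  rw [h7, h3] at h6
  rw [← Subgroup.card_mul_index B, ← h6]
  ring

/-- a cyclic prime does not divide `|S|` -/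
theorem Fac.not_dvd [Finite S] (h : Fac T A B S l) {u : ℕ} (hu : CycW T u) : ¬ u ∣ Nat.card S := by
  obtain ⟨e⟩ := h.iso
  intro hd
  refine hu.not_dvd_of_pow h.two_le e ?_
  rw [h.card_eq]
  exact hd.trans (dvd_pow_self _ (by have := h.two_le; omega))

theorem Fac.not_dvd_index [Finite S] (h : Fac T A B S l) {u : ℕ} (hu : CycW T u) : ¬ u ∣ B.index := fun hd =>
  h.not_dvd hu (hu.1.dvd_of_dvd_pow (hd.trans h.index_dvd))

theorem Fac.pow_dvd [Finite S] (h : Fac T A B S l) {u k : ℕ} (hu : CycW T u) (hk : u ^ k ∣ Nat.card T) :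
    u ^ k ∣ Nat.card B := by
  rw [← Subgroup.card_mul_index B] at hk
  exact (Nat.Coprime.pow_left k ((Nat.Prime.coprime_iff_not_dvd hu.1).mpr (h.not_dvd_index hu))).dvd_of_dvd_mul_right hk

theorem Fac.dvd [Finite S] (h : Fac T A B S l) {u : ℕ} (hu : CycW T u) : u ∣ Nat.card B := by
  have := h.pow_dvd hu (k := 1) (by rw [pow_one]; exact hu.2.1)
  rwa [pow_one] at this

theorem Fac.not_iGap [Finite S] (h : Fac T A B S l) : ¬ IGap T B := by
  rintro ⟨u, hu, hd⟩
  exact h.not_dvd_index hu.1 hd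

theorem Fac.not_cGap [Finite S] (h : Fac T A B S l) : ¬ CGap T B := fun hg => h.not_iGap hg.iGap

theorem Fac.congr {T' : Type*} [Group T'] (e : T ≃* T') (h : Fac T A B S l) :
    Fac T' (A.map e.toMonoidHom) (B.map e.toMonoidHom) S l := by
  refine ⟨h.two_le, ?_, fun ht => h.ne_top ?_, fun t => ?_⟩
  · obtain ⟨f⟩ := h.iso
    exact ⟨(A.equivMapOfInjective e.toMonoidHom e.injective).symm.trans f⟩
  · rw [eq_top_iff]
    intro x _
    have h1 : e x ∈ B.map e.toMonoidHom := by rw [ht]; trivial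
    obtain ⟨y, hy, hyx⟩ := h1
    rwa [← e.injective hyx]
  · obtain ⟨x, hx, y, hy, h1⟩ := h.fac (e.symm t)
    exact ⟨e x, ⟨x, hx, rfl⟩, e y, ⟨y, hy, rfl⟩, by rw [← map_mul, ← h1, MulEquiv.apply_symm_apply]⟩

theorem Fac.congr_right {S' : Type*} [Group S'] (e : S ≃* S') (h : Fac T A B S l) : Fac T A B S' l := by
  obtain ⟨f⟩ := h.iso
  exact ⟨h.two_le, ⟨f.trans (MulEquiv.piCongrRight fun _ => e)⟩, h.ne_top, h.fac⟩

/-- the factorization with a conjugate of `B` -/
theorem Fac.conj (h : Fac T A B S l) (g : T) : Fac T A (B.map (MulAut.conj g).toMonoidHom) S l := by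
  refine ⟨h.two_le, h.iso, fun ht => h.ne_top ?_, fun t => ?_⟩
  · rw [eq_top_iff]
    intro x _
    have h1 : (MulAut.conj g) x ∈ B.map (MulAut.conj g).toMonoidHom := by rw [ht]; trivial
    obtain ⟨y, hy, hyx⟩ := h1
    rwa [← (MulAut.conj g).injective hyx]
  · obtain ⟨a, ha, b, hb, hg⟩ := h.fac g
    obtain ⟨x, hx, y, hy, ht⟩ := h.fac (t * a)
    -- `t = x y a⁻¹ = (x a⁻¹) (a y a⁻¹)`, and `a y a⁻¹ = g (b⁻¹ y b) g⁻¹`
    refine ⟨x * a⁻¹, A.mul_mem hx (A.inv_mem ha), a * y * a⁻¹, ⟨b⁻¹ * y * b, B.mul_mem (B.mul_mem (B.inv_mem hb) hy) hb,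
      ?_⟩, ?_⟩
    · show g * (b⁻¹ * y * b) * g⁻¹ = a * y * a⁻¹
      rw [hg]
      group
    · have : t = x * y * a⁻¹ := by rw [← ht]; group
      rw [this]
      group

/-- `S × S` embeds in `A` -/
theorem Fac.exists_hom (h : Fac T A B S l) : ∃ φ : S × S →* T, Function.Injective φ ∧ ∀ x, φ x ∈ A := by
  obtain ⟨e⟩ := h.iso
  have h2 := h.two_le
  let i : Fin l := ⟨0, by omega⟩
  let j : Fin l := ⟨1, by omega⟩
  have hij : i ≠ j := by simp [i, j]
  let ψ : S × S →* (Fin l → S) := MonoidHom.noncommCoprod (MonoidHom.mulSingle (fun _ : Fin l => S) i)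
    (MonoidHom.mulSingle (fun _ : Fin l => S) j) (fun a b => Pi.mulSingle_commute (f := fun _ : Fin l => S) hij a b)
  have hψ : Function.Injective ψ := by
    rw [injective_iff_map_eq_one]
    rintro ⟨a, b⟩ hab
    have hab' : (Pi.mulSingle i a : Fin l → S) * Pi.mulSingle j b = 1 := hab
    have h3 := congrFun hab' i
    have h4 := congrFun hab' j
    rw [Pi.mul_apply, Pi.mulSingle_eq_same, Pi.mulSingle_eq_of_ne (M := fun _ => S) hij, mul_one] at h3
    rw [Pi.mul_apply, Pi.mulSingle_eq_same, Pi.mulSingle_eq_of_ne (M := fun _ => S) hij.symm, one_mul] at h4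
    rw [show a = 1 from h3, show b = 1 from h4]
    rfl
  exact ⟨A.subtype.comp (e.symm.toMonoidHom.comp ψ),
    A.subtype_injective.comp (e.symm.injective.comp hψ), fun x => SetLike.coe_mem _⟩

end basic

section nofac

variable {T : Type} [Group T] [Finite T]

omit [Finite T] in
theorem noFac_of_iGap (h : ∀ M : Subgroup T, IsCoatom M → IGap T M) : NoFac T :=
  fun _ _ _ _ _ _ M _ hM hF => hF.not_iGap (h M hM)

omit [Finite T] in
theorem noFac_of_cGapMax (h : CGapMax T) : NoFac T := noFac_of_iGap fun M hM => (h M hM).iGap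

/-- a transfer to all universes -/
theorem NoFac.out (h : NoFac T) {T' : Type*} [Group T'] (e : T' ≃* T) {S : Type*} [Group S] [Finite S]
    (hS : IsSimpleGroup S) (hSna : ¬ IsMulCommutative S) {A B : Subgroup T'} {l : ℕ} (hF : Fac T' A B S l) : False := by
  have hF1 := hF.congr e
  obtain ⟨φ, hφ, -⟩ := hF1.exists_hom
  -- a copy of `S` in `T`
  let ι : S →* S × S := MonoidHom.inl S S
  have hι : Function.Injective ι := fun a b hab => congrArg Prod.fst hab
  let e1 : S ≃* (φ.comp ι).range := (φ.comp ι).ofInjective (hφ.comp hι)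
  obtain ⟨M, hM, hBM⟩ := (eq_top_or_exists_le_coatom (B.map e.toMonoidHom)).resolve_left hF1.ne_top
  have : Finite (φ.comp ι).range := inferInstance
  refine h (φ.comp ι).range ?_ ?_ _ M l hM ((hF1.congr_right e1).mono hBM hM.1)
  · exact e1.symm.isSimpleGroup
  · intro hc
    apply hSna
    refine ⟨⟨fun a b => e1.injective ?_⟩⟩
    rw [map_mul, map_mul]
    exact hc.is_comm.comm _ _

end nofac

end Cfsg.Agent.H899.CG
end

-- part: H899/Pt/Grp
section
prune_inst 0x300041400400100000180510200002042000019000230c01042007000a00eb4220008f00beb01400001a0080400000000010008000100000000004000000000000a944023210ad0cb60016000004000000000000000000000000000000000004000000000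
set_option linter.all false
open scoped Cfsg.Agent.FastGrp

-- part: H899/Pt/Lin
section
/-!
# Commuting operators of prime order `r` on a space of dimension at most `2 n + 1`, `n = ord_r(q)` (helper899, S3679)

* `RD F r n` : `r` odd prime, different from the characteristic, `ord_r(|F|) = n ≥ 1`;
* `RD.fx_or` : on an invariant subspace of dimension `n` an operator of order `r` is trivial or fixed point free;
* `RD.exists_triv` : `x`, `y` commuting, `Z` of dimension `n`, `y` fixed point free on `Z`: some `x y ^ i` is trivial on `Z`;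
* `RD.exists_big` : `x`, `y` generate `C_r × C_r`: some `x ^ i y ^ j` has `dim [V, x ^ i y ^ j] ≥ 2 n`;
* `lemC` : **Lemma C** (`S₁` simple non-abelian, `y ∈ S₁` commutes with `S₁` on `Z` ⟹ `y` trivial on `Z`);
* `gp` : `T = A M`, `M` without `C_r × C_r`: the `T`-conjugates in `A` of a subgroup of order `r` of `A ∩ M` are
  `A`-conjugates.
-/

set_option autoImplicit false

namespace Cfsg.Agent.H899.Pt

open Module Cfsg.Agent.H951 Cfsg.Agent.H884.Cg

/-- `r` is an odd prime, not the characteristic, `n = ord_r(|F|)` -/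
structure RD (F : Type*) [Field F] [Fintype F] (r n : ℕ) : Prop where
  prime : r.Prime
  two_lt : 2 < r
  ne0 : (r : F) ≠ 0
  ord : orderOf (Fintype.card F : ZMod r) = n

section Lin

variable {F : Type*} [Field F] [Fintype F] {V : Type*} [AddCommGroup V] [Module F V] [FiniteDimensional F V]
  {x y : Module.End F V} {Z : Submodule F V} {r n : ℕ}

theorem RD.dvd (h : RD F r n) (hy : y ^ r = 1) (hZ : _root_.Cfsg.Agent.H951.Inv y Z) (hf : Z ⊓ fx y = ⊥) : n ∣ finrank F Z := by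
  have := Fact.mk h.prime
  rw [← h.ord]
  exact ord_dvd_finrank hy hZ hf

theorem RD.pos (h : RD F r n) : 0 < n := by
  have := Fact.mk h.prime
  rw [← h.ord]
  exact ord_pos h.ne0

theorem RD.dvd_inf_cm (h : RD F r n) (hy : y ^ r = 1) (hZ : _root_.Cfsg.Agent.H951.Inv y Z) : n ∣ finrank F ↥(Z ⊓ cm y) :=
  h.dvd hy (hZ.inf inv_cm) (inf_fx_of_le_cm h.ne0 hy inf_le_right)

theorem RD.dvd_cm (h : RD F r n) (hy : y ^ r = 1) : n ∣ finrank F (cm y) :=
  h.dvd hy inv_cm (inf_fx_of_le_cm h.ne0 hy le_rfl)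

theorem RD.le_finrank (h : RD F r n) (hy : y ^ r = 1) (hZ : _root_.Cfsg.Agent.H951.Inv y Z) (hf : Z ⊓ fx y = ⊥) (h0 : Z ≠ ⊥) :
    n ≤ finrank F Z :=
  Nat.le_of_dvd (Nat.pos_of_ne_zero fun h1 => h0 (Submodule.finrank_eq_zero.1 h1)) (h.dvd hy hZ hf)

omit [Fintype F] [FiniteDimensional F V] in
theorem cm_ne_bot (hx1 : x ≠ 1) : cm x ≠ ⊥ := fun h => hx1 (sub_eq_zero.1 (LinearMap.range_eq_bot.1 h))

theorem RD.le_cm (h : RD F r n) (hy : y ^ r = 1) (hy1 : y ≠ 1) : n ≤ finrank F (cm y) :=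
  h.le_finrank hy inv_cm (inf_fx_of_le_cm h.ne0 hy le_rfl) (cm_ne_bot hy1)

/-- on an invariant subspace of dimension `n`: trivial or fixed point free -/
theorem RD.fx_or (h : RD F r n) (hy : y ^ r = 1) (hZ : _root_.Cfsg.Agent.H951.Inv y Z) (hd : finrank F Z = n) :
    Z ≤ fx y ∨ Z ⊓ fx y = ⊥ := by
  have h1 := finrank_inf_add h.ne0 hy hZ
  have h2 := h.dvd_inf_cm hy hZ
  rcases Nat.eq_zero_or_pos (finrank F ↥(Z ⊓ cm y)) with h3 | h3
  · left
    have h4 : Z ⊓ fx y = Z := Submodule.eq_of_le_of_finrank_le inf_le_left (by omega)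
    rw [← h4]
    exact inf_le_right
  · right
    have h4 := Nat.le_of_dvd h3 h2
    exact Submodule.finrank_eq_zero.1 (by omega)

theorem RD.exists_triv (h : RD F r n) (hx : x ^ r = 1) (hy : y ^ r = 1) (hxy : Commute x y) (hZx : _root_.Cfsg.Agent.H951.Inv x Z)
    (hZy : _root_.Cfsg.Agent.H951.Inv y Z) (hd : finrank F Z = n) (hf : Z ⊓ fx y = ⊥) : ∃ i < r, Z ≤ fx (x * y ^ i) := by
  have h0 : Z ≠ ⊥ := by
    rintro rfl
    rw [finrank_bot] at hd
    exact h.pos.ne hd
  obtain ⟨i, hi, hne⟩ := exists_fixed h.prime h.ne0 hx hy hxy hZx hZy h0 hf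
  refine ⟨i, hi, ?_⟩
  have hc : Commute x (y ^ i) := hxy.pow_right i
  have hp : (x * y ^ i) ^ r = 1 := by
    rw [hc.mul_pow, hx, ← pow_mul, mul_comm i r, pow_mul, hy, one_pow, one_mul]
  exact (h.fx_or hp (Inv.mul hZx (hZy.pow i)) hd).resolve_right hne

omit [Fintype F] [FiniteDimensional F V] in
theorem pow_mul_pow_r (hx : x ^ r = 1) (hy : y ^ r = 1) (hxy : Commute x y) (i j : ℕ) : (x ^ i * y ^ j) ^ r = 1 := by
  rw [(hxy.pow_pow i j).mul_pow, ← pow_mul, ← pow_mul, mul_comm i, mul_comm j, pow_mul, pow_mul, hx, hy, one_pow,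
    one_pow, one_mul]

omit [Fintype F] [FiniteDimensional F V] in
/-- if `w` is trivial on `cm y` and commutes with `y` (order `r`) then `cm w ≤ fx y` and
`cm w ⊔ cm y ≤ cm (w * y)` -/
theorem cm_le_fx (h0 : (r : F) ≠ 0) (hy : y ^ r = 1) {w : Module.End F V} (hwy : Commute w y)
    (hw : cm y ≤ fx w) : cm w ≤ fx y := by
  intro v hv
  obtain ⟨u, rfl⟩ := mem_cm.1 hv
  have h1 : u ∈ fx y ⊔ cm y := by rw [(isCompl_fx_cm h0 hy).sup_eq_top]; trivial
  obtain ⟨a, ha, b, hb, rfl⟩ := Submodule.mem_sup.1 h1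
  rw [map_add, mem_fx.1 (hw hb)]
  have h2 : w a + b - (a + b) = w a - a := by abel
  rw [h2]
  exact (fx y).sub_mem (inv_fx_of_commute hwy a ha) ha

omit [Fintype F] [FiniteDimensional F V] in
theorem cm_sup_le (h0 : (r : F) ≠ 0) (hy : y ^ r = 1) {w : Module.End F V} (hwr : w ^ r = 1) (hwy : Commute w y)
    (hw : cm y ≤ fx w) : cm w ⊔ cm y ≤ cm (w * y) := by
  have hwf := cm_le_fx h0 hy hwy hw
  have hp : (w * y) ^ r = 1 := by rw [hwy.mul_pow, hwr, hy, one_mul]
  refine sup_le ?_ ?_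
  · refine le_cm_of_inf_fx h0 hp ?_ ?_
    · exact Inv.mul inv_cm (inv_cm_of_commute hwy.symm)
    · rw [eq_bot_iff, ← (isCompl_fx_cm h0 hwr).inf_eq_bot]
      rintro v ⟨h1, h2⟩
      refine ⟨mem_fx.2 ?_, h1⟩
      have h3 := mem_fx.1 h2
      rwa [Module.End.mul_apply, mem_fx.1 (hwf h1)] at h3
  · refine le_cm_of_inf_fx h0 hp ?_ ?_
    · exact Inv.mul (inv_cm_of_commute hwy) inv_cm
    · rw [eq_bot_iff, ← (isCompl_fx_cm h0 hy).inf_eq_bot]
      rintro v ⟨h1, h2⟩
      refine ⟨mem_fx.2 ?_, h1⟩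
      have h3 := mem_fx.1 h2
      rwa [Module.End.mul_apply, mem_fx.1 (hw (inv_cm v h1))] at h3

/-- `C_r × C_r` contains an element with `dim [V, z] ≥ 2 n` -/
theorem RD.exists_big (h : RD F r n) (hx : x ^ r = 1) (hy : y ^ r = 1) (hxy : Commute x y) (hy1 : y ≠ 1)
    (hn : ∀ i : ℕ, x * y ^ i ≠ 1) : ∃ i j : ℕ, 2 * n ≤ finrank F (cm (x ^ i * y ^ j)) := by
  have h1 := h.dvd_cm hy
  have h2 := h.le_cm hy hy1
  by_cases h3 : finrank F (cm y) = n
  · obtain ⟨i, -, hi⟩ := h.exists_triv hx hy hxy (inv_cm_of_commute hxy) inv_cm h3 (inf_fx_of_le_cm h.ne0 hy le_rfl)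
    have hc : Commute x (y ^ i) := hxy.pow_right i
    have hwr : (x * y ^ i) ^ r = 1 := by
      have := pow_mul_pow_r hx hy hxy 1 i
      rwa [pow_one] at this
    have hwy : Commute (x * y ^ i) y := hxy.mul_left ((Commute.refl y).pow_left i)
    have h4 := cm_sup_le h.ne0 hy hwr hwy hi
    have h5 := h.le_cm hwr (hn i)
    have h6 : cm (x * y ^ i) ⊓ cm y = ⊥ := by
      rw [eq_bot_iff, ← (isCompl_fx_cm h.ne0 hwr).inf_eq_bot]
      exact fun v hv => ⟨hi hv.2, hv.1⟩
    have h7 := finrank_sup_of_disj h6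
    have h8 := Submodule.finrank_mono h4
    refine ⟨1, i + 1, ?_⟩
    rw [pow_one, pow_succ, ← mul_assoc]
    omega
  · obtain ⟨k, hk⟩ := h1
    refine ⟨0, 1, ?_⟩
    rw [pow_zero, pow_one, one_mul, hk, mul_comm]
    have : 2 ≤ k := by
      by_contra hcon
      have hk2 : k = 0 ∨ k = 1 := by omega
      rcases hk2 with rfl | rfl
      · rw [mul_zero] at hk
        have := h.pos
        omega
      · exact h3 (by rw [hk, mul_one])
    exact Nat.mul_le_mul_left n this

end Lin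

section Grp

open Subgroup

variable {T G : Type*} [Group T] [Group G]

/-- **Lemma C** -/
theorem lemC {F : Type*} [Field F] {V : Type*} [AddCommGroup V] [Module F V] {r : ℕ} (hr2 : Odd r)
    (π : G →* T) (hπ : Function.Surjective π) (hker : ∀ k, π k = 1 → k ^ 2 = 1 ∧ ∀ g, k * g = g * k)
    (ρ : G →* Module.End F V) {S₁ : Subgroup T} (hS : IsSimpleGroup S₁) (hna : ¬ ∀ a ∈ S₁, ∀ b ∈ S₁, a * b = b * a)
    {y : G} (hyS : π y ∈ S₁) (hyr : y ^ r = 1) {Z : Submodule F V}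
    (hZ : ∀ g, π g ∈ S₁ → _root_.Cfsg.Agent.H951.Inv (ρ g) Z) (hc : ∀ g, π g ∈ S₁ → ∀ v ∈ Z, ρ (y * g) v = ρ (g * y) v) :
    Z ≤ fx (ρ y) := by
  have hmul : ∀ (g h : G) (v : V), ρ (g * h) v = ρ g (ρ h v) := fun g h v => by rw [map_mul]; rfl
  have hinvv : ∀ (g : G) (v : V), ρ g (ρ g⁻¹ v) = v := fun g v => by
    rw [← hmul, mul_inv_cancel, map_one]; rfl
  have hinvv' : ∀ (g : G) (v : V), ρ g⁻¹ (ρ g v) = v := fun g v => by
    rw [← hmul, inv_mul_cancel, map_one]; rfl
  have hfinv : ∀ g : G, Z ≤ fx (ρ g) → Z ≤ fx (ρ g⁻¹) := fun g hg v hv => by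
    rw [mem_fx]
    have h1 := mem_fx.1 (hg hv)
    conv_lhs => rw [← h1]
    exact hinvv' g v
  -- the elements of `S₁` with a lift trivial on `Z`
  let N : Subgroup S₁ :=
    { carrier := {s | ∃ g, π g = s ∧ Z ≤ fx (ρ g)}
      mul_mem' := by
        rintro s t ⟨g, hg, hg2⟩ ⟨h, hh, hh2⟩
        refine ⟨g * h, by rw [map_mul, hg, hh]; rfl, fun v hv => ?_⟩
        rw [mem_fx, hmul, mem_fx.1 (hh2 hv), mem_fx.1 (hg2 hv)]
      one_mem' := ⟨1, by rw [map_one]; rfl, fun v _ => by rw [mem_fx, map_one]; rfl⟩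
      inv_mem' := by
        rintro s ⟨g, hg, hg2⟩
        exact ⟨g⁻¹, by rw [map_inv, hg]; rfl, hfinv g hg2⟩ }
  have hN : N.Normal := by
    refine ⟨fun s hs t => ?_⟩
    obtain ⟨g, hg, hg2⟩ := hs
    obtain ⟨h, hh⟩ := hπ (t : T)
    refine ⟨h * g * h⁻¹, by rw [map_mul, map_mul, map_inv, hh, hg]; rfl, fun v hv => ?_⟩
    have h1 : ρ h⁻¹ v ∈ Z := hZ h⁻¹ (by rw [map_inv, hh]; exact inv_mem t.2) v hv
    rw [mem_fx, hmul, hmul, mem_fx.1 (hg2 h1), hinvv]
  rcases hN.eq_bot_or_eq_top with h1 | h1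
  · -- `π y` is central in `S₁`
    have h2 : ∀ s : S₁, s * ⟨π y, hyS⟩ = ⟨π y, hyS⟩ * s := by
      intro s
      obtain ⟨g, hg⟩ := hπ (s : T)
      have hgS : π g ∈ S₁ := by rw [hg]; exact s.2
      have h3 : (⟨π y, hyS⟩ * s * (⟨π y, hyS⟩ : S₁)⁻¹ * s⁻¹ : S₁) ∈ N := by
        refine ⟨y * g * y⁻¹ * g⁻¹, by rw [map_mul, map_mul, map_mul, map_inv, map_inv, hg]; rfl, fun v hv => ?_⟩
        have h4 : ρ g⁻¹ v ∈ Z := hZ g⁻¹ (by rw [map_inv]; exact inv_mem hgS) v hv
        have h5 : ρ y⁻¹ (ρ g⁻¹ v) ∈ Z := hZ y⁻¹ (by rw [map_inv]; exact inv_mem hyS) _ h4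
        rw [mem_fx, hmul, hmul, hc g hgS _ h5, hmul, hinvv, hinvv]
      rw [h1, Subgroup.mem_bot] at h3
      rw [mul_inv_eq_one, mul_inv_eq_iff_eq_mul] at h3
      exact h3.symm
    have h3 : (⟨π y, hyS⟩ : S₁) ∈ center S₁ := Subgroup.mem_center_iff.2 h2
    have h4 : center S₁ = ⊥ := by
      rcases (inferInstance : (center S₁).Normal).eq_bot_or_eq_top with h5 | h5
      · exact h5
      · exfalso
        apply hna
        intro a ha b hb
        have h6 : (⟨b, hb⟩ : S₁) ∈ center S₁ := by rw [h5]; trivial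
        exact congrArg Subtype.val (Subgroup.mem_center_iff.1 h6 ⟨a, ha⟩)
    rw [h4, Subgroup.mem_bot] at h3
    have h5 : π y = 1 := congrArg Subtype.val h3
    have h6 := (hker y h5).1
    obtain ⟨k, hk⟩ := hr2
    have h7 : y = 1 := by
      rw [hk, pow_succ, pow_mul, h6, one_pow, one_mul] at hyr
      exact hyr
    intro v _
    rw [mem_fx, h7, map_one]
    rfl
  · have h2 : (⟨π y, hyS⟩ : S₁) ∈ N := by rw [h1]; trivial
    obtain ⟨g, hg, hg2⟩ := h2
    have hg' : π g = π y := hg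
    have h3 : π (g⁻¹ * y) = 1 := by rw [map_mul, map_inv, hg', inv_mul_cancel]
    obtain ⟨h4, h5⟩ := hker _ h3
    have h6 : y = g * (g⁻¹ * y) := by group
    have h7 : y ^ 2 = g ^ 2 := by
      have hc2 : Commute g (g⁻¹ * y) := (h5 g).symm
      conv_lhs => rw [h6, hc2.mul_pow, h4, mul_one]
    obtain ⟨k, hk⟩ := hr2
    have h8 : y = (y ^ 2) ^ (k + 1) := by
      rw [← pow_mul, show 2 * (k + 1) = r + 1 by omega, pow_succ, hyr, one_mul]
    intro v hv
    rw [mem_fx, h8, h7, ← pow_mul, map_pow]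
    exact pow_fx (mem_fx.1 (hg2 hv)) _

end Grp

end Cfsg.Agent.H899.Pt
end

-- part: H899/Pt/Grp
section
/-!
# Two factors of `A = S ^ l`, conjugacy inside a factorization (helper899, S3679)

* `TwoFac A S₁ S₂` : `S₁`, `S₂` commuting simple non-abelian normal factors of `A`; `Fac.twoFac`;
* `conj_of_cyc` : subgroups of order `r` of a group without `C_r × C_r` are conjugate;
* `gp` : `T = A M`, `M` without `C_r × C_r`: the `T`-conjugates in `A` of a subgroup of order `r` of `A ∩ M` are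
  `A`-conjugates;
* `comm_lift` : lifts of commuting elements commute if one of them has odd order.
-/

set_option autoImplicit false

namespace Cfsg.Agent.H899.Pt

open Subgroup Cfsg.Agent.H899.CG
open scoped Pointwise

/-- two factors of a direct power -/
structure TwoFac {T : Type*} [Group T] (A S₁ S₂ : Subgroup T) : Prop where
  le₁ : S₁ ≤ A
  le₂ : S₂ ≤ A
  simple₁ : IsSimpleGroup S₁
  simple₂ : IsSimpleGroup S₂
  na₁ : ¬ ∀ a ∈ S₁, ∀ b ∈ S₁, a * b = b * a
  na₂ : ¬ ∀ a ∈ S₂, ∀ b ∈ S₂, a * b = b * a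
  comm : ∀ a ∈ S₁, ∀ b ∈ S₂, a * b = b * a
  norm₁ : ∀ a ∈ A, ∀ s ∈ S₁, a * s * a⁻¹ ∈ S₁
  norm₂ : ∀ a ∈ A, ∀ s ∈ S₂, a * s * a⁻¹ ∈ S₂
  dec₁ : ∀ a ∈ A, ∃ s ∈ S₁, ∃ a' ∈ A, a = s * a' ∧ ∀ t ∈ S₁, t * a' = a' * t
  dec₂ : ∀ a ∈ A, ∃ s ∈ S₂, ∃ a' ∈ A, a = s * a' ∧ ∀ t ∈ S₂, t * a' = a' * t

section tf

variable {T : Type*} [Group T] {A S₁ S₂ : Subgroup T}

theorem TwoFac.symm (h : TwoFac A S₁ S₂) : TwoFac A S₂ S₁ :=
  ⟨h.le₂, h.le₁, h.simple₂, h.simple₁, h.na₂, h.na₁, fun a ha b hb => (h.comm b hb a ha).symm, h.norm₂, h.norm₁,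
    h.dec₂, h.dec₁⟩

theorem TwoFac.inf (h : TwoFac A S₁ S₂) {x : T} (h1 : x ∈ S₁) (h2 : x ∈ S₂) : x = 1 := by
  have := h.simple₁
  have h3 : (⟨x, h1⟩ : S₁) ∈ center S₁ := by
    rw [mem_center_iff]
    intro g
    exact Subtype.ext (h.comm g g.2 x h2)
  have h4 : center S₁ = ⊥ := by
    rcases (inferInstance : (center S₁).Normal).eq_bot_or_eq_top with h5 | h5
    · exact h5
    · exfalso
      apply h.na₁
      intro a ha b hb
      have h6 : (⟨b, hb⟩ : S₁) ∈ center S₁ := by rw [h5]; trivial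
      exact congrArg Subtype.val (mem_center_iff.1 h6 ⟨a, ha⟩)
  rw [h4, mem_bot] at h3
  exact congrArg Subtype.val h3

theorem range_simple {S : Type*} [Group S] (hS : IsSimpleGroup S) (hSna : ¬ IsMulCommutative S) {φ : S →* T}
    (hφ : Function.Injective φ) :
    IsSimpleGroup φ.range ∧ ¬ ∀ a ∈ φ.range, ∀ b ∈ φ.range, a * b = b * a := by
  refine ⟨(φ.ofInjective hφ).symm.isSimpleGroup, fun h => hSna ⟨⟨fun a b => hφ ?_⟩⟩⟩
  rw [map_mul, map_mul]
  exact h _ ⟨a, rfl⟩ _ ⟨b, rfl⟩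

/-- the factors `0` and `1` -/
theorem _root_.Cfsg.Agent.H899.CG.Fac.twoFac {B : Subgroup T} {S : Type*} [Group S] {l : ℕ} (h : Fac T A B S l)
    (hS : IsSimpleGroup S) (hSna : ¬ IsMulCommutative S) :
    ∃ S₁ S₂ : Subgroup T, TwoFac A S₁ S₂ ∧ Nat.card S₁ = Nat.card S ∧ Nat.card S₂ = Nat.card S := by
  obtain ⟨e⟩ := h.iso
  have h2 := h.two_le
  let φ : Fin l → (S →* T) := fun i =>
    A.subtype.comp (e.symm.toMonoidHom.comp (MonoidHom.mulSingle (fun _ : Fin l => S) i))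
  have hφ : ∀ i, Function.Injective (φ i) := fun i =>
    A.subtype_injective.comp (e.symm.injective.comp (Pi.mulSingle_injective (M := fun _ : Fin l => S) i))
  have hφa : ∀ i s, φ i s = ((e.symm (Pi.mulSingle i s) : A) : T) := fun i s => rfl
  have hle : ∀ i, (φ i).range ≤ A := by
    rintro i _ ⟨s, rfl⟩
    exact SetLike.coe_mem _
  have hnorm : ∀ i, ∀ a ∈ A, ∀ s ∈ (φ i).range, a * s * a⁻¹ ∈ (φ i).range := by
    rintro i a ha _ ⟨s, rfl⟩
    refine ⟨e ⟨a, ha⟩ i * s * (e ⟨a, ha⟩ i)⁻¹, ?_⟩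
    rw [hφa, hφa]
    have h3 : (⟨a, ha⟩ : A) * e.symm (Pi.mulSingle i s) * (⟨a, ha⟩ : A)⁻¹
        = e.symm (Pi.mulSingle i (e ⟨a, ha⟩ i * s * (e ⟨a, ha⟩ i)⁻¹)) := by
      apply e.injective
      rw [map_mul, map_mul, map_inv, e.apply_symm_apply, e.apply_symm_apply]
      funext j
      by_cases hj : j = i
      · subst hj
        simp only [_root_.Pi.mul_apply, _root_.Pi.mulSingle_eq_same, _root_.Pi.inv_apply]
      · simp only [Pi.mulSingle_eq_of_ne (M := fun _ : Fin l => S) hj, _root_.Pi.mul_apply, _root_.mul_one, _root_.Pi.inv_apply, _root_.mul_inv_cancel]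
    exact (congrArg Subtype.val h3).symm
  have hdec : ∀ i, ∀ a ∈ A, ∃ s ∈ (φ i).range, ∃ a' ∈ A, a = s * a' ∧ ∀ t ∈ (φ i).range, t * a' = a' * t := by
    intro i a ha
    let f : Fin l → S := e ⟨a, ha⟩
    let f' : Fin l → S := Function.update f i 1
    refine ⟨φ i (f i), ⟨_, rfl⟩, (e.symm f' : A), SetLike.coe_mem _, ?_, ?_⟩
    · rw [hφa]
      have h3 : (⟨a, ha⟩ : A) = e.symm (Pi.mulSingle i (f i)) * e.symm f' := by
        rw [← map_mul]
        apply e.injective
        rw [e.apply_symm_apply]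
        funext j
        by_cases hj : j = i
        · subst hj
          simp [f', f]
        · simp [f', f, Pi.mulSingle_eq_of_ne (M := fun _ : Fin l => S) hj, Function.update_of_ne hj]
      exact congrArg Subtype.val h3
    · rintro _ ⟨t, rfl⟩
      rw [hφa]
      have h3 : e.symm (Pi.mulSingle i t) * e.symm f' = e.symm f' * e.symm (Pi.mulSingle i t) := by
        rw [← map_mul, ← map_mul]
        congr 1
        funext j
        by_cases hj : j = i
        · subst hj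
          simp [f']
        · simp [f', Pi.mulSingle_eq_of_ne (M := fun _ : Fin l => S) hj]
      exact congrArg Subtype.val h3
  let i : Fin l := ⟨0, by omega⟩
  let j : Fin l := ⟨1, by omega⟩
  have hij : i ≠ j := by simp [i, j]
  refine ⟨(φ i).range, (φ j).range, ⟨hle i, hle j, (range_simple hS hSna (hφ i)).1, (range_simple hS hSna (hφ j)).1,
    (range_simple hS hSna (hφ i)).2, (range_simple hS hSna (hφ j)).2, ?_, hnorm i, hnorm j, hdec i, hdec j⟩,
    Nat.card_congr ((φ i).ofInjective (hφ i)).toEquiv.symm, Nat.card_congr ((φ j).ofInjective (hφ j)).toEquiv.symm⟩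
  rintro _ ⟨s, rfl⟩ _ ⟨t, rfl⟩
  rw [hφa, hφa]
  have h3 : e.symm (Pi.mulSingle i s) * e.symm (Pi.mulSingle j t)
      = e.symm (Pi.mulSingle j t) * e.symm (Pi.mulSingle i s) := by
    rw [← map_mul, ← map_mul]
    congr 1
    exact Pi.mulSingle_commute (f := fun _ : Fin l => S) hij s t
  exact congrArg Subtype.val h3

end tf

section gp

variable {T : Type*} [Group T] [Finite T] {r : ℕ}

/-- `D` has no subgroup `C_r × C_r` -/
def NoSq (D : Subgroup T) (r : ℕ) : Prop :=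
  ∀ x ∈ D, ∀ y ∈ D, orderOf x = r → orderOf y = r → x * y = y * x → y ∈ zpowers x

omit [Finite T] in
theorem NoSq.mono {D D' : Subgroup T} (h : NoSq D' r) (hD : D ≤ D') : NoSq D r :=
  fun x hx y hy => h x (hD hx) y (hD hy)

/-- subgroups of order `r` of a group without `C_r × C_r` are conjugate -/
theorem conj_of_cyc (hr : r.Prime) {D : Subgroup T} (h : NoSq D r) {x y : T} (hx : x ∈ D) (hy : y ∈ D)
    (hxr : orderOf x = r) (hyr : orderOf y = r) : ∃ d ∈ D, d * y * d⁻¹ ∈ zpowers x := by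
  classical
  have hF := Fact.mk hr
  let x' : D := ⟨x, hx⟩
  let y' : D := ⟨y, hy⟩
  have hx' : orderOf x' = r := by rw [← Subgroup.orderOf_coe]; exact hxr
  have hy' : orderOf y' = r := by rw [← Subgroup.orderOf_coe]; exact hyr
  have hpx : IsPGroup r (zpowers x') := IsPGroup.of_card (n := 1) (by rw [Nat.card_zpowers, hx', pow_one])
  have hpy : IsPGroup r (zpowers y') := IsPGroup.of_card (n := 1) (by rw [Nat.card_zpowers, hy', pow_one])
  obtain ⟨P, hP⟩ := hpx.exists_le_sylow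
  obtain ⟨R, hR⟩ := hpy.exists_le_sylow
  obtain ⟨d, hd⟩ := MulAction.exists_smul_eq D R P
  have h1 : d * y' * d⁻¹ ∈ P := by
    rw [← hd]
    have h2 : y' ∈ R := hR (mem_zpowers y')
    show _ ∈ ((d • R : Sylow r D) : Subgroup D)
    rw [Sylow.coe_subgroup_smul]
    exact ⟨y', h2, rfl⟩
  -- a central element of order `r` of `P`
  have hPn : Nontrivial P := by
    refine ⟨⟨⟨x', hP (mem_zpowers x')⟩, 1, fun h2 => ?_⟩⟩
    have h3 : x' = 1 := congrArg Subtype.val h2
    rw [h3, orderOf_one] at hx'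
    exact hr.one_lt.ne hx'
  have hcn := P.isPGroup'.center_nontrivial (G := P)
  have hdv : r ∣ Nat.card (center P) := by
    have h4 := (P.isPGroup'.to_subgroup (center P)).card_eq_or_dvd
    rcases h4 with h4 | h4
    · exact absurd h4 (Finite.one_lt_card).ne'
    · exact h4
  obtain ⟨z, hz⟩ := exists_prime_orderOf_dvd_card' r hdv
  have hzo : orderOf (((z : P) : D) : T) = r := by rw [Subgroup.orderOf_coe, Subgroup.orderOf_coe, Subgroup.orderOf_coe, hz]
  have key : ∀ w : D, w ∈ P → orderOf w = r → (w : T) ∈ zpowers (((z : P) : D) : T) := by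
    intro w hw hwr
    refine h _ ((z : P) : D).2 _ w.2 hzo (by rw [Subgroup.orderOf_coe]; exact hwr) ?_
    have h5 := mem_center_iff.1 z.2 ⟨w, hw⟩
    have h6 := congrArg (fun t : P => ((t : D) : T)) h5
    exact h6.symm
  have h5 := key x' (hP (mem_zpowers x')) hx'
  have h6 := key _ h1 (by
    have : orderOf (d * y' * d⁻¹) = orderOf y' := by
      rw [← MulAut.conj_apply]; exact orderOf_injective (MulAut.conj d).toMonoidHom (MulAut.conj d).injective y'
    rw [this, hy'])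
  refine ⟨d, d.2, ?_⟩
  have h7 : zpowers x = zpowers (((z : P) : D) : T) := by
    refine Subgroup.eq_of_le_of_card_ge (zpowers_le.2 h5) ?_
    rw [Nat.card_zpowers, Nat.card_zpowers, hzo, hxr]
  rw [h7]
  exact h6

/-- **conjugacy inside a factorization**: `y`, `t y t⁻¹ ∈ A`, `y ∈ M` of order `r` -/
theorem gp (hr : r.Prime) {A M : Subgroup T} (hf : ∀ t : T, ∃ a ∈ A, ∃ m ∈ M, t = a * m) (h : NoSq M r) {y t : T}
    (hyA : y ∈ A) (hyM : y ∈ M) (hy : orderOf y = r) (ht : t * y * t⁻¹ ∈ A) :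
    ∃ a ∈ A, a * y * a⁻¹ ∈ zpowers (t * y * t⁻¹) := by
  obtain ⟨a, ha, m, hm, rfl⟩ := hf t
  have h1 : m * y * m⁻¹ ∈ A ⊓ M := by
    refine ⟨?_, M.mul_mem (M.mul_mem hm hyM) (M.inv_mem hm)⟩
    have h2 := A.mul_mem (A.mul_mem (A.inv_mem ha) ht) ha
    have h3 : a⁻¹ * (a * m * y * (a * m)⁻¹) * a = m * y * m⁻¹ := by group
    rwa [h3] at h2
  have ho : orderOf (m * y * m⁻¹) = r := by
    have : orderOf (m * y * m⁻¹) = orderOf y := by
      rw [← MulAut.conj_apply]; exact orderOf_injective (MulAut.conj m).toMonoidHom (MulAut.conj m).injective y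
    rw [this, hy]
  obtain ⟨d, hd, hdm⟩ := conj_of_cyc hr (h.mono inf_le_right) h1 (⟨hyA, hyM⟩ : y ∈ A ⊓ M) ho hy
  refine ⟨a * d, A.mul_mem ha hd.1, ?_⟩
  obtain ⟨k, hk⟩ := mem_zpowers_iff.1 hdm
  refine mem_zpowers_iff.2 ⟨k, ?_⟩
  have h4 : a * m * y * (a * m)⁻¹ = a * (m * y * m⁻¹) * a⁻¹ := by group
  rw [h4, conj_zpow, hk]
  group

end gp

section lift

variable {T G : Type*} [Group T] [Group G]

/-- lifts of commuting elements commute if one of them has odd order -/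
theorem comm_lift {r : ℕ} (hr2 : Odd r) (π : G →* T) (hker : ∀ k, π k = 1 → k ^ 2 = 1 ∧ ∀ g, k * g = g * k)
    {g h : G} (hg : g ^ r = 1) (hc : π g * π h = π h * π g) : g * h = h * g := by
  have h1 : π (h * g * h⁻¹ * g⁻¹) = 1 := by
    rw [map_mul, map_mul, map_mul, map_inv, map_inv, ← hc]
    group
  obtain ⟨h2, h3⟩ := hker _ h1
  set k := h * g * h⁻¹ * g⁻¹ with hk
  have h4 : h * g * h⁻¹ = k * g := by rw [hk]; group
  have h5 : (h * g * h⁻¹) ^ r = 1 := by rw [conj_pow, hg, mul_one, mul_inv_cancel]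
  have hkg : Commute k g := h3 g
  rw [h4, hkg.mul_pow, hg, mul_one] at h5
  obtain ⟨j, hj⟩ := hr2
  rw [hj, pow_succ, pow_mul, h2, one_pow, one_mul] at h5
  rw [h5, one_mul, mul_inv_eq_iff_eq_mul] at h4
  exact h4.symm

end lift

end Cfsg.Agent.H899.Pt
end
end

-- part: H899/Pt/Even2
section
prune_inst 0x10000140440000000000001080000004200001000000080000200500000822020000800008800402001a000000000000001000808000000000000400000000001080000000400000000006000000000000000000000000000000000000000004000000000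
set_option linter.all false
open scoped Cfsg.Agent.FastGrp

-- part: H899/Pt/Big
section
/-!
# Factorizations by the stabiliser of a nonsingular point, I (helper899, S3679)

`Cfg` : `G → T` (central kernel of exponent two), `G ≤ O(V, Q)`, `A ≤ T` transitive on the points `⟨v⟩`, `Q v = c ≠ 0`,
`r` a prime with `ord_r(q) = n ≥ 3`, `dim V ≤ 2 n + 1`, no element `z` of order `r` with `dim [V, z] ≥ 2 n` fixes a
vector of norm `c`.

* `Cfg.big₂` : all elements `x` of order `r` of the factors `S₁`, `S₂` of `A` have `dim [V, x] ≥ 2 n`.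
-/

set_option autoImplicit false
set_option linter.unusedSectionVars false
set_option linter.unusedVariables false

namespace Cfsg.Agent.H899.Pt

open Module QuadraticMap Cfsg.Agent.H951 Cfsg.Agent.H884.Cg Cfsg.Agent.H955 Cfsg.Agent.LieClassical.OrthCore
open Cfsg.Agent.H954.TSing

variable {T G : Type*} [Group T] [Group G] {F : Type*} [Field F] [Fintype F] {V : Type*} [AddCommGroup V] [Module F V]
  [FiniteDimensional F V]

/-- the data -/
structure Cfg (Q : QuadraticForm F V) (c : F) (r n : ℕ) (π : G →* T) (ρ : G →* Module.End F V) (A : Subgroup T) :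
    Prop where
  rd : RD F r n
  n3 : 3 ≤ n
  surj : Function.Surjective π
  ker : ∀ k, π k = 1 → k ^ 2 = 1 ∧ ∀ g, k * g = g * k
  inj : Function.Injective ρ
  iso : ∀ g v, Q (ρ g v) = Q v
  nondeg : Nondeg Q
  tr : ∀ v w, Q v = c → Q w = c → ∃ a, π a ∈ A ∧ (ρ a v = w ∨ ρ a v = -w)
  c0 : c ≠ 0
  dim : 2 * n ≤ finrank F V
  uni : ∀ Z : Submodule F V, Nondeg (res Q Z) → 3 ≤ finrank F Z → ∀ d, ∃ v ∈ Z, v ≠ 0 ∧ Q v = d
  nb : ∀ z : G, z ^ r = 1 → 2 * n ≤ finrank F (cm (ρ z)) → ∀ w, Q w = c → ρ z w ≠ w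

variable {Q : QuadraticForm F V} {c : F} {r n : ℕ} {π : G →* T} {ρ : G →* Module.End F V} {A S₁ S₂ : Subgroup T}

theorem Cfg.odd (h : Cfg Q c r n π ρ A) : Odd r := h.rd.prime.odd_of_ne_two (by have := h.rd.two_lt; omega)

theorem Cfg.rpow (h : Cfg Q c r n π ρ A) {x : G} (hx : x ^ r = 1) : ρ x ^ r = 1 := by rw [← map_pow, hx, map_one]

theorem Cfg.rne (h : Cfg Q c r n π ρ A) {x : G} (hx : x ≠ 1) : ρ x ≠ 1 := fun h1 => hx (h.inj (by rw [h1, map_one]))

theorem Cfg.pne (h : Cfg Q c r n π ρ A) {x : G} (hx : x ^ r = 1) (hx1 : x ≠ 1) : π x ≠ 1 := by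
  intro h1
  obtain ⟨h2, -⟩ := h.ker x h1
  obtain ⟨j, hj⟩ := h.odd
  apply hx1
  rw [hj, pow_succ, pow_mul, h2, one_pow, one_mul] at hx
  exact hx

theorem Cfg.comm (h : Cfg Q c r n π ρ A) {g x : G} (hx : x ^ r = 1) (hc : π x * π g = π g * π x) : x * g = g * x :=
  comm_lift h.odd π h.ker hx hc

theorem Cfg.comm' (h : Cfg Q c r n π ρ A) {g x : G} (hx : x ^ r = 1) (hc : π x * π g = π g * π x) :
    Commute (ρ x) (ρ g) := by
  show ρ x * ρ g = ρ g * ρ x
  rw [← map_mul, h.comm hx hc, map_mul]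

theorem mem_fx_inv {x : G} {v : V} (hv : v ∈ fx (ρ x)) : v ∈ fx (ρ x⁻¹) := by
  rw [mem_fx] at hv ⊢
  conv_lhs => rw [← hv]
  rw [← Module.End.mul_apply, ← map_mul, inv_mul_cancel, map_one]
  rfl

theorem mem_fx_pow {x : G} {v : V} (hv : v ∈ fx (ρ x)) (i : ℕ) : v ∈ fx (ρ (x ^ i)) := by
  rw [mem_fx, map_pow]
  exact pow_fx (mem_fx.1 hv) i

theorem mem_fx_mul {x y : G} {v : V} (hv : v ∈ fx (ρ x)) (hv' : v ∈ fx (ρ y)) : v ∈ fx (ρ (x * y)) := by
  rw [mem_fx] at *
  rw [map_mul, Module.End.mul_apply, hv', hv]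

/-- `x ∈ S₂`, `y ∈ S₁` of order `r`, `Z` invariant of dimension `n`, `x` fixed point free on `Z`: `y` is trivial
on `Z`. -/
theorem Cfg.triv (h : Cfg Q c r n π ρ A) (hS : TwoFac A S₁ S₂) {x y : G} (hx : π x ∈ S₂) (hxr : x ^ r = 1)
    (hy : π y ∈ S₁) (hyr : y ^ r = 1) {Z : Submodule F V} (hZx : _root_.Cfsg.Agent.H951.Inv (ρ x) Z)
    (hZ : ∀ g, π g ∈ S₁ → _root_.Cfsg.Agent.H951.Inv (ρ g) Z) (hd : finrank F Z = n) (hf : Z ⊓ fx (ρ x) = ⊥) : Z ≤ fx (ρ y) := by
  have hxy : Commute (ρ y) (ρ x) := (h.comm' hxr (hS.comm _ hy _ hx).symm).symm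
  obtain ⟨i, hi, hZi⟩ := h.rd.exists_triv (h.rpow hyr) (h.rpow hxr) hxy (hZ y hy) hZx hd hf
  refine lemC h.odd π h.surj h.ker ρ hS.simple₁ hS.na₁ hy hyr hZ fun g hg v hv => ?_
  -- `ρ y = ρ (x ^ i)⁻¹` on `Z`
  have key : ∀ w ∈ Z, ρ y w = ρ (x ^ i)⁻¹ w := by
    intro w hw
    have h1 := mem_fx.1 (hZi hw)
    rw [← map_pow, ← map_mul] at h1
    have h2 : y * x ^ i = x ^ i * y := by
      have h3 := h.comm hxr (hS.comm _ hy _ hx).symm
      exact ((show Commute x y from h3).pow_left i).symm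
    rw [h2, map_mul, Module.End.mul_apply] at h1
    conv_rhs => rw [← h1]
    rw [← Module.End.mul_apply, ← map_mul, inv_mul_cancel, map_one]
    rfl
  have hgx : g * (x ^ i)⁻¹ = (x ^ i)⁻¹ * g := by
    have h3 := h.comm hxr (hS.comm _ hg _ hx).symm
    exact (((show Commute x g from h3).pow_left i).inv_left.symm).eq
  rw [map_mul, map_mul, Module.End.mul_apply, Module.End.mul_apply, key _ (hZ g hg v hv), key v hv,
    ← Module.End.mul_apply, ← Module.End.mul_apply, ← map_mul, ← map_mul, hgx]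

/-- an element of `S₂` of order `r` with small commutator space forces a contradiction -/
theorem Cfg.big₂ (h : Cfg Q c r n π ρ A) (hS : TwoFac A S₁ S₂) {x : G} (hx : π x ∈ S₂) (hxr : x ^ r = 1)
    (hx1 : x ≠ 1) {y : G} (hy : π y ∈ S₁) (hyr : y ^ r = 1) (hy1 : y ≠ 1) : 2 * n ≤ finrank F (cm (ρ x)) := by
  by_contra hlt
  have hn3 := h.n3
  have hdim := h.dim
  -- `dim [V, x] = n`
  have hcard : ∀ z : G, z ^ r = 1 → z ≠ 1 → ¬ 2 * n ≤ finrank F (cm (ρ z)) → finrank F (cm (ρ z)) = n := by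
    intro z hz hz1 hlt
    obtain ⟨k, hk⟩ := h.rd.dvd_cm (h.rpow hz)
    have h1 := h.rd.le_cm (h.rpow hz) (h.rne hz1)
    have h2 : k < 2 := by
      by_contra hcon
      apply hlt
      rw [hk, mul_comm]
      exact Nat.mul_le_mul_left n (by omega)
    have h3 : k ≠ 0 := by
      rintro rfl
      omega
    have h4 : k = 1 := by omega
    rw [hk, h4, mul_one]
  have hdx := hcard x hxr hx1 hlt
  -- a vector of norm `c` fixed by an element with small commutator space
  have hfix : ∀ z : G, z ^ r = 1 → finrank F (cm (ρ z)) = n → ∃ w, Q w = c ∧ w ∈ fx (ρ z) := by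
    intro z hz hd
    have h1 := finrank_fx_add_cm h.rd.ne0 (h.rpow hz)
    obtain ⟨w, hw, -, hwc⟩ := h.uni (fx (ρ z)) (nondeg_fx h.nondeg (h.iso z) h.rd.ne0 (h.rpow hz)) (by omega) c
    exact ⟨w, hwc, hw⟩
  obtain ⟨w, hwc, hw⟩ := hfix x hxr hdx
  have hxy' : Commute (ρ x) (ρ y) := h.comm' hxr (hS.comm _ hy _ hx).symm
  -- `y` is trivial on `[V, x]`
  have htriv : cm (ρ x) ≤ fx (ρ y) := by
    refine h.triv hS hx hxr hy hyr inv_cm (fun g hg => ?_) hdx (inf_fx_of_le_cm h.rd.ne0 (h.rpow hxr) le_rfl)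
    exact inv_cm_of_commute (h.comm' hxr (hS.comm _ hg _ hx).symm).symm
  have hdy : finrank F (cm (ρ y)) = n := by
    refine hcard y hyr hy1 fun h1 => ?_
    -- otherwise `y` fixes nothing of norm `c`, but `[V, x]` contains vectors of norm `c`
    obtain ⟨u, hu, -, huc⟩ := h.uni (cm (ρ x)) (nondeg_cm h.nondeg (h.iso x) h.rd.ne0 (h.rpow hxr)) (by omega) c
    exact h.nb y hyr h1 u huc (mem_fx.1 (htriv hu))
  obtain ⟨w', hwc', hw'⟩ := hfix y hyr hdy
  obtain ⟨a, ha, haw⟩ := h.tr w w' hwc hwc'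
  -- `y' = a⁻¹ y a` fixes `w`
  set y' := a⁻¹ * y * a with hy'
  have hy'r : y' ^ r = 1 := by
    have : y' = a⁻¹ * y * a⁻¹⁻¹ := by rw [inv_inv]
    rw [this, conj_pow, hyr, mul_one, mul_inv_cancel]
  have hy'1 : y' ≠ 1 := by
    intro h1
    apply hy1
    have : y = a * y' * a⁻¹ := by rw [hy']; group
    rw [this, h1, mul_one, mul_inv_cancel]
  have hy'S : π y' ∈ S₁ := by
    have h1 := hS.norm₁ (π a)⁻¹ (A.inv_mem ha) _ hy
    rw [hy', map_mul, map_mul, map_inv]
    rwa [inv_inv] at h1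
  have hy'w : ρ y' w = w := by
    rw [hy', map_mul, map_mul, Module.End.mul_apply, Module.End.mul_apply]
    have h1 : ρ y (ρ a w) = ρ a w := by
      rcases haw with h2 | h2
      · rw [h2]; exact mem_fx.1 hw'
      · rw [h2, map_neg, mem_fx.1 hw']
    rw [h1, ← Module.End.mul_apply, ← map_mul, inv_mul_cancel, map_one]
    rfl
  have hcxy : x * y' = y' * x := h.comm hxr (hS.comm _ hy'S _ hx).symm
  have hcom : Commute (ρ x) (ρ y') := by
    show ρ x * ρ y' = ρ y' * ρ x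
    rw [← map_mul, hcxy, map_mul]
  obtain ⟨i, j, hij⟩ := h.rd.exists_big (h.rpow hxr) (h.rpow hy'r) hcom (h.rne hy'1) (by
    intro i hi
    rw [← map_pow, ← map_mul] at hi
    have h1 : x * y' ^ i = 1 := h.inj (by rw [hi, map_one])
    have h2 : π x * π y' ^ i = 1 := by rw [← map_pow, ← map_mul, h1, map_one]
    have h3 : π x ∈ S₁ := by
      rw [mul_eq_one_iff_eq_inv] at h2
      rw [h2]
      exact S₁.inv_mem (S₁.pow_mem hy'S i)
    exact h.pne hxr hx1 (hS.inf h3 hx))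
  refine h.nb (x ^ i * y' ^ j) ?_ ?_ w hwc ?_
  · have hc : Commute x y' := hcxy
    rw [(hc.pow_pow i j).mul_pow, ← pow_mul, ← pow_mul, mul_comm i, mul_comm j, pow_mul, pow_mul, hxr, hy'r, one_pow,
      one_pow, one_mul]
  · rw [map_mul, map_pow, map_pow]
    exact hij
  · exact mem_fx.1 (mem_fx_mul (mem_fx_pow hw i) (mem_fx_pow (mem_fx.2 hy'w) j))

end Cfsg.Agent.H899.Pt
end

-- part: H899/Pt/Burn
section
/-!
# A simple group without `C_r × C_r`, `r` odd: some element normalises but does not centralise a subgroup of order `r`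
(helper899, S3679)
-/

set_option autoImplicit false

namespace Cfsg.Agent.H899.Pt

open Subgroup

variable {S : Type*} [Group S] [Finite S] {r : ℕ}

theorem uniqueP_of_noSq (hr : r.Prime) (hc : ∀ x y : S, orderOf x = r → orderOf y = r → x * y = y * x → y ∈ zpowers x)
    (P : Sylow r S) : Cfsg.Agent.Solvable.UniqueOrderP.UniqueP r P := by
  have hF := Fact.mk hr
  intro x y hx hxr hyr
  by_cases hy : y = 1
  · rw [hy]; exact one_mem _
  have ho : ∀ w : P, w ≠ 1 → w ^ r = 1 → orderOf w = r := fun w hw hwr => orderOf_eq_prime hwr hw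
  have hPn : Nontrivial P := ⟨⟨x, 1, hx⟩⟩
  have hcn := P.isPGroup'.center_nontrivial (G := P)
  have hdv : r ∣ Nat.card (center P) := by
    rcases (P.isPGroup'.to_subgroup (center P)).card_eq_or_dvd with h4 | h4
    · exact absurd h4 (Finite.one_lt_card).ne'
    · exact h4
  obtain ⟨z, hz⟩ := exists_prime_orderOf_dvd_card' r hdv
  have hzo : orderOf ((z : P) : S) = r := by rw [Subgroup.orderOf_coe, Subgroup.orderOf_coe, hz]
  have key : ∀ w : P, w ≠ 1 → w ^ r = 1 → zpowers (w : S) = zpowers ((z : P) : S) := by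
    intro w hw hwr
    have hwo : orderOf (w : S) = r := by rw [Subgroup.orderOf_coe, ho w hw hwr]
    have h1 : (w : S) ∈ zpowers ((z : P) : S) := by
      refine hc _ _ hzo hwo ?_
      exact (congrArg (fun t : P => (t : S)) (mem_center_iff.1 z.2 w)).symm
    refine Subgroup.eq_of_le_of_card_ge (zpowers_le.2 h1) ?_
    rw [Nat.card_zpowers, Nat.card_zpowers, hzo, hwo]
  have h1 : (y : S) ∈ zpowers (x : S) := by
    rw [key x hx hxr, ← key y hy hyr]
    exact mem_zpowers _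
  obtain ⟨i, hi⟩ := mem_zpowers_iff.1 h1
  exact mem_zpowers_iff.2 ⟨i, Subtype.ext (by push_cast; exact hi)⟩

theorem exists_norm [IsSimpleGroup S] (hna : ¬ ∀ a b : S, a * b = b * a) (hr : r.Prime) (hr2 : r ≠ 2)
    (hd : r ∣ Nat.card S)
    (hc : ∀ x y : S, orderOf x = r → orderOf y = r → x * y = y * x → y ∈ zpowers x) :
    ∃ y g : S, orderOf y = r ∧ g * y * g⁻¹ ∈ zpowers y ∧ g * y * g⁻¹ ≠ y := by
  classical
  have hF := Fact.mk hr
  by_contra hcon
  push Not at hcon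
  let P : Sylow r S := default
  have hPcyc : IsCyclic P := Solvable.UniqueOrderP.isCyclic_of_uniqueP hr2 P.isPGroup' (uniqueP_of_noSq hr hc P)
  obtain ⟨w, hw⟩ := hPcyc.exists_generator
  have hPd : r ∣ Nat.card P := by
    have h1 := P.card_eq_multiplicity
    rw [h1]
    exact dvd_pow_self _ (Nat.Prime.factorization_pos_of_dvd hr Nat.card_pos.ne' hd).ne'
  have hwo : orderOf w = Nat.card P := orderOf_eq_card_of_forall_mem_zpowers hw
  obtain ⟨t, ht⟩ := (IsPGroup.iff_card (p := r)).1 P.isPGroup'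
  have ht0 : t ≠ 0 := by
    rintro rfl
    rw [ht, pow_zero] at hPd
    exact hr.one_lt.ne' (Nat.dvd_one.1 hPd)
  obtain ⟨s, rfl⟩ := Nat.exists_eq_succ_of_ne_zero ht0
  have hws : orderOf (w : S) = r ^ (s + 1) := by rw [Subgroup.orderOf_coe, hwo, ht]
  have hy0 : orderOf ((w : S) ^ r ^ s) = r := by
    rw [orderOf_pow' _ (pow_ne_zero _ hr.ne_zero), hws, Nat.gcd_eq_right (pow_dvd_pow r (Nat.le_succ s)), pow_succ,
      Nat.mul_div_cancel_left _ (pow_pos hr.pos s)]
  -- the normalizer centralises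
  have hNC : Subgroup.normalizer ((P : Subgroup S) : Set S) ≤ Subgroup.centralizer ((P : Subgroup S) : Set S) := by
    intro n hn
    -- `n w n⁻¹ = w ^ k`
    have hnw : n * w * n⁻¹ ∈ (P : Subgroup S) := (Subgroup.mem_normalizer_iff.1 hn (w : S)).1 w.2
    obtain ⟨k, hk⟩ := mem_zpowers_iff.1 (hw ⟨_, hnw⟩)
    have hk1 : (w : S) ^ k = n * w * n⁻¹ := by
      have := congrArg Subtype.val hk
      push_cast at this
      exact this
    have hkj : ∀ j : ℕ, n ^ j * w * (n ^ j)⁻¹ = (w : S) ^ (k ^ j) := by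
      intro j
      induction j with
      | zero => simp
      | succ j ih =>
        have h1 : n ^ (j + 1) * (w : S) * (n ^ (j + 1))⁻¹ = n * (n ^ j * w * (n ^ j)⁻¹) * n⁻¹ := by
          rw [pow_succ']; group
        rw [h1, ih, ← conj_zpow, ← hk1, ← zpow_mul, pow_succ']
    -- `k ≡ 1 mod r`
    have hk2 : (r : ℤ) ∣ k - 1 := by
      have h1 : n * (w : S) ^ r ^ s * n⁻¹ = ((w : S) ^ r ^ s) ^ k := by
        rw [← conj_pow, ← hk1, ← zpow_natCast, ← zpow_natCast, ← zpow_mul, ← zpow_mul, mul_comm]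
      have h2 := hcon _ n hy0 (by rw [h1]; exact zpow_mem (mem_zpowers _) k)
      rw [h1] at h2
      have h3 : ((w : S) ^ r ^ s) ^ (k - 1) = 1 := by rw [zpow_sub, zpow_one, h2, mul_inv_cancel]
      have h4 := orderOf_dvd_iff_zpow_eq_one.2 h3
      rwa [hy0] at h4
    -- a power of `n` prime to `r` centralises
    obtain ⟨d, hd1, hd2⟩ : ∃ d : ℕ, ¬ r ∣ d ∧ n ^ d * w * (n ^ d)⁻¹ = (w : S) := by
      let f := Subgroup.normalizerMonoidHom (P : Subgroup S)
      refine ⟨orderOf (f ⟨n, hn⟩), ?_, ?_⟩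
      · intro h1
        have h2 : orderOf (f ⟨n, hn⟩) ∣ Nat.card f.range := by
          have : orderOf (⟨f ⟨n, hn⟩, ⟨_, rfl⟩⟩ : f.range) = orderOf (f ⟨n, hn⟩) := by
            rw [← Subgroup.orderOf_coe]
          rw [← this]
          exact _root_.orderOf_dvd_natCard _
        have h3 : Nat.card f.range = f.ker.index := (Subgroup.index_ker f).symm
        have h4 : (P : Subgroup S).subgroupOf (Subgroup.normalizer ((P : Subgroup S) : Set S)) ≤ f.ker := by
          intro a ha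
          rw [Subgroup.mem_subgroupOf] at ha
          rw [MonoidHom.mem_ker]
          apply MulEquiv.ext
          intro b
          apply Subtype.ext
          show (a : S) * b * (a : S)⁻¹ = b
          have hcomm : (⟨a, ha⟩ : P) * b = b * ⟨a, ha⟩ := by
            have := hPcyc.isMulCommutative
            exact this.is_comm.comm _ _
          have h5 : (a : S) * b = b * a := congrArg Subtype.val hcomm
          rw [h5, mul_inv_cancel_right]
        have h5 : f.ker.index ∣ ((P : Subgroup S).subgroupOf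
            (Subgroup.normalizer ((P : Subgroup S) : Set S))).index := Subgroup.index_dvd_of_le h4
        have h6 : ((P : Subgroup S).subgroupOf (Subgroup.normalizer ((P : Subgroup S) : Set S))).index ∣
            (P : Subgroup S).index := by
          have : (P : Subgroup S).relIndex (Subgroup.normalizer ((P : Subgroup S) : Set S)) ∣ (P : Subgroup S).index :=
            Subgroup.relIndex_dvd_index_of_le Subgroup.le_normalizer
          exact this
        exact P.not_dvd_index (h1.trans ((h2.trans (h3 ▸ h5)).trans h6))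
      · have h1 : f (⟨n, hn⟩ ^ orderOf (f ⟨n, hn⟩)) = 1 := by rw [map_pow, pow_orderOf_eq_one]
        have h2 := congrArg (fun e : MulAut P => ((e w : P) : S)) h1
        exact h2
    have h1 : ((r ^ (s + 1) : ℕ) : ℤ) ∣ k ^ d - 1 := by
      rw [hkj d] at hd2
      have h3 : (w : S) ^ (k ^ d - 1) = 1 := by rw [zpow_sub, zpow_one, hd2, mul_inv_cancel]
      have h4 := orderOf_dvd_iff_zpow_eq_one.2 h3
      rwa [hws] at h4
    have h2 : k ^ d - 1 = (k - 1) * ∑ i ∈ Finset.range d, k ^ i := (mul_geom_sum k d).symm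
    have h3 : (∑ i ∈ Finset.range d, k ^ i) ≡ d [ZMOD r] := by
      have h4 : k ≡ 1 [ZMOD r] := (Int.modEq_iff_dvd.2 (by
        have := dvd_neg.2 hk2
        rwa [neg_sub] at this))
      calc (∑ i ∈ Finset.range d, k ^ i) ≡ ∑ i ∈ Finset.range d, (1 : ℤ) [ZMOD r] := by
            refine Int.ModEq.sum fun i _ => ?_
            have := h4.pow i
            rwa [one_pow] at this
        _ = d := by simp
    have h4 : IsCoprime ((r ^ (s + 1) : ℕ) : ℤ) (∑ i ∈ Finset.range d, k ^ i) := by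
      push_cast
      apply IsCoprime.pow_left
      rw [(Nat.prime_iff_prime_int.1 hr).coprime_iff_not_dvd]
      intro h5
      apply hd1
      have h6 : (r : ℤ) ∣ d := (h3.dvd_iff).1 h5
      exact_mod_cast h6
    have h5 : ((r ^ (s + 1) : ℕ) : ℤ) ∣ k - 1 := by
      rw [h2] at h1
      exact h4.dvd_of_dvd_mul_right h1
    have h6 : (w : S) ^ (k - 1) = 1 := by
      apply orderOf_dvd_iff_zpow_eq_one.1
      rwa [hws]
    have h7 : n * (w : S) * n⁻¹ = w := by
      rw [← hk1]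
      rwa [zpow_sub, zpow_one, mul_inv_eq_one] at h6
    rw [Subgroup.mem_centralizer_iff]
    intro h hh
    obtain ⟨j, hj⟩ := mem_zpowers_iff.1 (hw ⟨h, hh⟩)
    have hj1 : (w : S) ^ j = h := by
      have := congrArg Subtype.val hj
      push_cast at this
      exact this
    have h8 : n * (w : S) = w * n := by
      rwa [mul_inv_eq_iff_eq_mul] at h7
    rw [← hj1]
    exact ((show Commute n (w : S) from h8).zpow_right j).symm
  have hcompl := MonoidHom.ker_transferSylow_isComplement' P hNC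
  have hnd := MonoidHom.not_dvd_card_ker_transferSylow P hNC
  rcases (inferInstance : (MonoidHom.transferSylow P hNC).ker.Normal).eq_bot_or_eq_top with h | h
  · have h1 := hcompl.card_mul_card
    rw [h, Subgroup.card_bot, one_mul] at h1
    have h2 : (P : Subgroup S) = ⊤ := Subgroup.eq_top_of_card_eq _ h1
    apply hna
    intro a b
    have ha : a ∈ (P : Subgroup S) := by rw [h2]; trivial
    have hb : b ∈ (P : Subgroup S) := by rw [h2]; trivial
    have hcomm : (⟨a, ha⟩ : P) * ⟨b, hb⟩ = ⟨b, hb⟩ * ⟨a, ha⟩ := by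
      have := hPcyc.isMulCommutative
      exact this.is_comm.comm _ _
    exact congrArg Subtype.val hcomm
  · rw [h] at hnd
    apply hnd
    rw [Subgroup.card_top]
    exact hd

end Cfsg.Agent.H899.Pt
end

-- part: H899/Pt/Odd
section
/-!
# Factorizations by the stabiliser of a nonsingular point, II: odd dimension (helper899, S3679)

* `Cfg.lift` : elements of order `r` lift to elements of order `r`;
* `Cfg.inv_of` : a subspace invariant under everything which commutes with `x` or with `y` is `A`-invariant;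
* `Cfg.false_odd` : `dim V = 2 n + 1`, `q` odd: contradiction.
-/

set_option autoImplicit false
set_option linter.unusedSectionVars false
set_option linter.unusedVariables false

namespace Cfsg.Agent.H899.Pt

open Module QuadraticMap Cfsg.Agent.H951 Cfsg.Agent.H884.Cg Cfsg.Agent.H955 Cfsg.Agent.LieClassical.OrthCore
open Cfsg.Agent.H954.TSing

variable {T G : Type*} [Group T] [Group G] {F : Type*} [Field F] [Fintype F] {V : Type*} [AddCommGroup V] [Module F V]
  [FiniteDimensional F V]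
variable {Q : QuadraticForm F V} {c : F} {r n : ℕ} {π : G →* T} {ρ : G →* Module.End F V} {A S₁ S₂ : Subgroup T}

theorem Cfg.lift (h : Cfg Q c r n π ρ A) {t : T} (ht : t ^ r = 1) : ∃ g, π g = t ∧ g ^ r = 1 := by
  obtain ⟨g, rfl⟩ := h.surj t
  obtain ⟨j, hj⟩ := h.odd
  refine ⟨g ^ (r + 1), by rw [map_pow, pow_succ, ht, one_mul], ?_⟩
  have h1 := (h.ker (g ^ r) (by rw [map_pow, ht])).1
  rw [← pow_mul, mul_comm, pow_mul, show r + 1 = 2 * (j + 1) by omega, pow_mul, h1, one_pow]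

theorem Cfg.lift_ne (h : Cfg Q c r n π ρ A) {t : T} (ht : orderOf t = r) :
    ∃ g, π g = t ∧ g ^ r = 1 ∧ g ≠ 1 := by
  obtain ⟨g, h1, h2⟩ := h.lift (t := t) (by rw [← ht, pow_orderOf_eq_one])
  refine ⟨g, h1, h2, ?_⟩
  rintro rfl
  rw [map_one] at h1
  rw [← h1, orderOf_one] at ht
  exact h.rd.prime.one_lt.ne ht

theorem Cfg.injE (h : Cfg Q c r n π ρ A) (g : G) : Function.Injective (ρ g) := by
  intro u v huv
  have h1 := congrArg (ρ g⁻¹) huv
  rwa [← Module.End.mul_apply, ← Module.End.mul_apply, ← map_mul, inv_mul_cancel, map_one] at h1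

/-- everything in `A` is a product of an element commuting with `x ∈ S₂` and an element commuting with `y ∈ S₁` -/
theorem Cfg.exists_dec (h : Cfg Q c r n π ρ A) (hS : TwoFac A S₁ S₂) {x y : G} (hx : π x ∈ S₂) (hxr : x ^ r = 1)
    (hy : π y ∈ S₁) (hyr : y ^ r = 1) {a : G} (ha : π a ∈ A) :
    ∃ s t : G, a = s * t ∧ x * s = s * x ∧ y * t = t * y := by
  obtain ⟨s, hs, a', ha', hsa, hc⟩ := hS.dec₁ _ ha
  obtain ⟨s, rfl⟩ := h.surj s
  refine ⟨s, s⁻¹ * a, by group, h.comm hxr (hS.comm _ hs _ hx).symm, h.comm hyr ?_⟩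
  have h1 : π (s⁻¹ * a) = a' := by rw [map_mul, map_inv, hsa]; group
  rw [h1]
  exact hc _ hy

theorem Cfg.two_n (h : Cfg Q c r n π ρ A) (hS : TwoFac A S₁ S₂) (hdim : finrank F V ≤ 2 * n + 1) {x y : G}
    (hx : π x ∈ S₂) (hxr : x ^ r = 1) (hx1 : x ≠ 1) (hy : π y ∈ S₁) (hyr : y ^ r = 1) (hy1 : y ≠ 1) :
    finrank F (cm (ρ x)) = 2 * n := by
  have h1 := h.big₂ hS hx hxr hx1 hy hyr hy1
  obtain ⟨k, hk⟩ := h.rd.dvd_cm (h.rpow hxr)
  have h2 : finrank F (cm (ρ x)) ≤ finrank F V := Submodule.finrank_le _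
  have hn3 := h.n3
  have h3 : k < 3 := by
    by_contra hcon
    have := Nat.mul_le_mul_left n (show 3 ≤ k by omega)
    omega
  have h4 : 2 ≤ k := by
    by_contra hcon
    have := Nat.mul_le_mul_left n (show k ≤ 1 by omega)
    omega
  rw [hk, show k = 2 by omega, mul_comm]

/-- **odd dimension** -/
theorem Cfg.false_odd (h : Cfg Q c r n π ρ A) (h2 : (2 : F) ≠ 0) (hS : TwoFac A S₁ S₂)
    (hdim : finrank F V = 2 * n + 1) {x y : G}
    (hx : π x ∈ S₂) (hxr : x ^ r = 1) (hx1 : x ≠ 1) (hy : π y ∈ S₁) (hyr : y ^ r = 1) (hy1 : y ≠ 1) : False := by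
  have hn3 := h.n3
  have hdx := h.two_n hS hdim.le hx hxr hx1 hy hyr hy1
  have hdy := h.two_n hS.symm hdim.le hy hyr hy1 hx hxr hx1
  have hfx := finrank_fx_add_cm h.rd.ne0 (h.rpow hxr)
  have hfy := finrank_fx_add_cm h.rd.ne0 (h.rpow hyr)
  have hxy : Commute (ρ x) (ρ y) := h.comm' hxr (hS.comm _ hy _ hx).symm
  -- the two fixed points agree
  have hle : fx (ρ y) ≤ fx (ρ x) := by
    have hi : _root_.Cfsg.Agent.H951.Inv (ρ x) (fx (ρ y)) := inv_fx_of_commute hxy
    have h1 := h.rd.dvd_inf_cm (h.rpow hxr) hi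
    have h3 : finrank F ↥(fx (ρ y) ⊓ cm (ρ x)) ≤ finrank F (fx (ρ y)) := Submodule.finrank_mono inf_le_left
    have h4 : finrank F ↥(fx (ρ y) ⊓ cm (ρ x)) = 0 := by
      by_contra hne
      have := Nat.le_of_dvd (Nat.pos_of_ne_zero hne) h1
      omega
    have h5 := inf_fx_sup_inf_cm h.rd.ne0 (h.rpow hxr) hi
    rw [Submodule.finrank_eq_zero.1 h4, sup_bot_eq] at h5
    rw [← h5]
    exact inf_le_right
  have heq : fx (ρ y) = fx (ρ x) := Submodule.eq_of_le_of_finrank_le hle (by omega)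
  -- `A` preserves it
  have hinv : ∀ a, π a ∈ A → _root_.Cfsg.Agent.H951.Inv (ρ a) (fx (ρ x)) := by
    intro a ha
    obtain ⟨s, t, rfl, hs, ht⟩ := h.exists_dec hS hx hxr hy hyr ha
    rw [map_mul]
    refine Inv.mul (inv_fx_of_commute ?_) ?_
    · show ρ s * ρ x = ρ x * ρ s
      rw [← map_mul, ← hs, map_mul]
    · rw [← heq]
      refine inv_fx_of_commute ?_
      show ρ t * ρ y = ρ y * ρ t
      rw [← map_mul, ← ht, map_mul]
  -- a vector of the fixed point
  obtain ⟨u₀, hu₀, hu₀0⟩ : ∃ u ∈ fx (ρ x), u ≠ 0 := by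
    have h1 : fx (ρ x) ≠ ⊥ := by
      intro h1
      rw [h1, finrank_bot] at hfx
      omega
    exact (Submodule.ne_bot_iff _).1 h1
  have hspan : ∀ u ∈ fx (ρ x), ∃ t : F, t • u₀ = u := by
    intro u hu
    have h1 : finrank F (fx (ρ x)) = 1 := by omega
    obtain ⟨t, ht⟩ := (finrank_eq_one_iff_of_nonzero' (⟨u₀, hu₀⟩ : fx (ρ x))
      (fun h3 => hu₀0 (congrArg Subtype.val h3))).1 h1 ⟨u, hu⟩
    exact ⟨t, congrArg Subtype.val ht⟩
  have hu₀p : polar Q u₀ u₀ ≠ 0 := by
    intro h1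
    apply hu₀0
    refine (nondeg_res_iff.1 (nondeg_fx h.nondeg (h.iso x) h.rd.ne0 (h.rpow hxr))) u₀ hu₀ fun u hu => ?_
    obtain ⟨t, rfl⟩ := hspan u hu
    rw [polar_smul_right, h1, smul_zero]
  have horth : ∀ u ∈ fx (ρ x), ∀ w ∈ cm (ρ x), polar Q u w = 0 := orth_fx_cm (h.iso x)
  have hnd := nondeg_cm h.nondeg (h.iso x) h.rd.ne0 (h.rpow hxr)
  obtain ⟨v₁, hv₁, -, hv₁c⟩ := h.uni (cm (ρ x)) hnd (by omega) c
  obtain ⟨w, hw, -, hwc⟩ := h.uni (cm (ρ x)) hnd (by omega) (c - Q u₀)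
  have hv₂c : Q (u₀ + w) = c := by
    rw [Q_add, hwc, horth u₀ hu₀ w hw]
    ring
  obtain ⟨a, ha, hav⟩ := h.tr v₁ (u₀ + w) hv₁c hv₂c
  obtain ⟨u₁, hu₁, hu₁a⟩ := inv_surj (h.injE a) (hinv a ha) hu₀
  have h3 : polar Q u₀ (ρ a v₁) = 0 := by
    rw [← hu₁a, polar_isom (h.iso a)]
    exact horth u₁ hu₁ v₁ hv₁
  have h4 : polar Q u₀ (u₀ + w) = 0 := by
    rcases hav with h5 | h5
    · rwa [h5] at h3
    · rw [h5, polar_neg_right, neg_eq_zero] at h3
      exact h3
  rw [polar_add_right, horth u₀ hu₀ w hw, add_zero] at h4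
  exact hu₀p h4

end Cfsg.Agent.H899.Pt
end

-- part: H899/Pt/Scal
section
/-!
# A field of self-adjoint operators with constant norms on `{Q = c}` is the ground field (helper899, S3679)

`EE Q c E` : `E` is a commutative algebra of self-adjoint operators, non-zero elements injective, and
`Q (a v)`, `polar Q (a v) v` are the same for all `v` with `Q v = c ≠ 0`.

* `EE.scal` : every element of `E` is a scalar (if nondegenerate spaces of dimension at least `3` are isotropic and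
  `dim V ≥ 4`).
-/

set_option autoImplicit false

namespace Cfsg.Agent.H899.Pt

open Module QuadraticMap Cfsg.Agent.H955 Cfsg.Agent.LieClassical.OrthCore Cfsg.Agent.LieClassical.OrthTrans

variable {F : Type*} [Field F] [Finite F] {V : Type*} [AddCommGroup V] [Module F V] [FiniteDimensional F V]

structure EE (Q : QuadraticForm F V) (c : F) (E : Subalgebra F (Module.End F V)) : Prop where
  c0 : c ≠ 0
  ex : ∃ v, Q v = c
  comm : ∀ a ∈ E, ∀ b ∈ E, a * b = b * a
  adj : ∀ a ∈ E, ∀ u w, polar Q (a u) w = polar Q u (a w)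
  inj : ∀ a ∈ E, a ≠ 0 → Function.Injective a
  inv : ∀ v w, Q v = c → Q w = c → ∀ a ∈ E, Q (a v) = Q (a w) ∧ polar Q (a v) v = polar Q (a w) w

variable {Q : QuadraticForm F V} {c : F} {E : Subalgebra F (Module.End F V)}

theorem finite_end : Finite (Module.End F V) := by
  have : Finite V := Module.finite_of_finite F
  exact Finite.of_injective (fun f : Module.End F V => (f : V → V)) DFunLike.coe_injective

theorem EE.exists_inv (h : EE Q c E) {l : Module.End F V} (hl : l ∈ E) (hl0 : l ≠ 0) : ∃ a ∈ E, a * l = 1 := by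
  have := finite_end (F := F) (V := V)
  have hf : Finite E := inferInstance
  let f : E → E := fun a => ⟨a * l, E.mul_mem a.2 hl⟩
  have hinj : Function.Injective f := by
    intro a b hab
    have h1 : (a : Module.End F V) * l = b * l := congrArg Subtype.val hab
    rw [h.comm _ a.2 _ hl, h.comm _ b.2 _ hl] at h1
    apply Subtype.ext
    apply LinearMap.ext
    intro v
    exact h.inj l hl hl0 (LinearMap.congr_fun h1 v)
  obtain ⟨a, ha⟩ := Finite.surjective_of_injective hinj 1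
  exact ⟨a, a.2, congrArg Subtype.val ha⟩

theorem EE.exists_sq (h : EE Q c E) (h2 : (2 : F) = 0) {a : Module.End F V} (ha : a ∈ E) : ∃ b ∈ E, b * b = a := by
  have := finite_end (F := F) (V := V)
  have hf : Finite E := inferInstance
  have h22 : ∀ x : Module.End F V, x + x = 0 := by
    intro x
    have : (2 : F) • x = x + x := two_smul F x
    rw [← this, h2, zero_smul]
  let f : E → E := fun b => ⟨b * b, E.mul_mem b.2 b.2⟩
  have hinj : Function.Injective f := by
    intro b d hbd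
    have h1 : (b : Module.End F V) * b = d * d := congrArg Subtype.val hbd
    by_contra hne
    have h3 : (b : Module.End F V) - d ≠ 0 := fun h4 => hne (Subtype.ext (sub_eq_zero.1 h4))
    have h4 : ((b : Module.End F V) - d) * (b - d) = 0 := by
      have h5 : ((b : Module.End F V) - d) * (b - d) = b * b + d * d - (b * d + d * b) := by noncomm_ring
      rw [h5, h.comm _ d.2 _ b.2, h22, h1, h22, sub_zero]
    obtain ⟨v, hv⟩ := h.ex
    have hi := h.inj _ (E.sub_mem b.2 d.2) h3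
    have h6 : v = 0 := by
      apply hi
      apply hi
      have h7 := LinearMap.congr_fun h4 v
      rw [map_zero, map_zero]
      exact h7
    rw [h6, QuadraticMap.map_zero] at hv
    exact h.c0 hv.symm
  obtain ⟨b, hb⟩ := Finite.surjective_of_injective hinj ⟨a, ha⟩
  exact ⟨b, b.2, congrArg Subtype.val hb⟩

/-- characteristic two -/
theorem EE.scal_even (h : EE Q c E) (h2 : (2 : F) = 0) {e : Module.End F V} (he : e ∈ E) :
    ∃ t : F, e = algebraMap F (Module.End F V) t := by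
  obtain ⟨v, hv⟩ := h.ex
  have h22 : ∀ x : F, x + x = 0 := fun x => by rw [← two_mul, h2, zero_mul]
  -- `polar (a v) v = 0`
  have hp : ∀ a ∈ E, ∀ w, polar Q (a w) w = 0 := by
    intro a ha w
    obtain ⟨b, hb, rfl⟩ := h.exists_sq h2 ha
    rw [Module.End.mul_apply, h.adj b hb, polar_self', h2, zero_mul]
  obtain ⟨t, ht⟩ : ∃ t : F, t * t = Q (e v) / c := by
    have hinj : Function.Injective (fun t : F => t * t) := by
      intro s t hst
      have h1 : s * s = t * t := hst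
      have h3 : (s - t) * (s - t) = 0 := by
        have : (s - t) * (s - t) = s * s + t * t - (s * t + s * t) := by ring
        rw [this, h22, h1, h22, sub_zero]
      exact sub_eq_zero.1 (mul_self_eq_zero.1 h3)
    exact Finite.surjective_of_injective hinj _
  have ht' : t * t * c = Q (e v) := by rw [ht, div_mul_cancel₀ _ h.c0]
  refine ⟨t, ?_⟩
  by_contra hne
  set l : Module.End F V := e - algebraMap F (Module.End F V) t with hl
  have hlE : l ∈ E := E.sub_mem he (E.algebraMap_mem t)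
  have hl0 : l ≠ 0 := fun h1 => hne (sub_eq_zero.1 h1)
  have hlv : Q (l v) = 0 := by
    have h1 : l v = e v + (-t) • v := by
      rw [hl, LinearMap.sub_apply, Module.algebraMap_end_apply, neg_smul, sub_eq_add_neg]
    rw [h1, Q_add, QuadraticMap.map_smul, hv, polar_smul_right, hp e he v, smul_zero, add_zero, smul_eq_mul,
      show -t * -t * c = t * t * c by ring, ht', h22]
  have hv' : Q (v + l v) = c := by
    rw [Q_add, hlv, hv, add_zero, ← h.adj l hlE, hp l hlE, add_zero]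
  obtain ⟨a, haE, hal⟩ := h.exists_inv hlE hl0
  have h1 := (h.inv v (v + l v) hv hv' a haE).1
  rw [map_add, Q_add] at h1
  have h3 : polar Q (a v) (a (l v)) = 0 := by
    have h4 : a (l v) = (a * l) v := rfl
    rw [h4, hal, Module.End.one_apply]
    exact hp a haE v
  have h4 : Q (a (l v)) = c := by
    have h5 : a (l v) = (a * l) v := rfl
    rw [h5, hal, Module.End.one_apply, hv]
  rw [h3, h4, add_zero] at h1
  exact h.c0 (by simpa using h1)

/-- odd characteristic -/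
theorem EE.scal_odd (h : EE Q c E) (h2 : (2 : F) ≠ 0) (hQ : Nondeg Q) (hd : 4 ≤ finrank F V)
    (huni : ∀ Z : Submodule F V, Nondeg (res Q Z) → 3 ≤ finrank F Z → ∃ v ∈ Z, v ≠ 0 ∧ Q v = 0)
    {e : Module.End F V} (he : e ∈ E) : ∃ t : F, e = algebraMap F (Module.End F V) t := by
  obtain ⟨v, hv⟩ := h.ex
  have hv0 : v ≠ 0 := by
    rintro rfl
    rw [QuadraticMap.map_zero] at hv
    exact h.c0 hv.symm
  have hvv : polar Q v v = 2 * c := by rw [polar_self', hv]
  have hvv0 : polar Q v v ≠ 0 := by rw [hvv]; exact mul_ne_zero h2 h.c0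
  -- the line of `v` is nondegenerate
  have hLn : Nondeg (res Q (Submodule.span F {v})) := by
    rw [nondeg_res_iff]
    intro x hx hxy
    obtain ⟨s, rfl⟩ := Submodule.mem_span_singleton.1 hx
    have h1 := hxy v (Submodule.mem_span_singleton_self v)
    rw [polar_smul_left, smul_eq_mul] at h1
    rcases mul_eq_zero.1 h1 with h3 | h3
    · rw [h3, zero_smul]
    · exact absurd h3 hvv0
  set W := perp Q (Submodule.span F {v}) with hW
  have hWn : Nondeg (res Q W) := nondeg_perp hQ hLn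
  have hWd : 3 ≤ finrank F W := by
    have h1 := finrank_add_perp hQ (Submodule.span F {v})
    rw [finrank_span_singleton hv0, ← hW] at h1
    omega
  have hmW : ∀ w, w ∈ W ↔ polar Q v w = 0 := by
    intro w
    rw [hW, mem_perp]
    constructor
    · intro h1
      exact h1 v (Submodule.mem_span_singleton_self v)
    · rintro h1 x hx
      obtain ⟨s, rfl⟩ := Submodule.mem_span_singleton.1 hx
      rw [polar_smul_left, h1, smul_zero]
  -- `e v ⊥` singular vectors of `W`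
  have hsing : ∀ w ∈ W, Q w = 0 → polar Q (e v) w = 0 := by
    intro w hw hw0
    have hw1 := (hmW w).1 hw
    have h1 : Q (v + w) = c := by rw [Q_add, hw0, hw1, hv, add_zero, add_zero]
    have h3 : Q (v + -w) = c := by
      rw [Q_add, QuadraticMap.map_neg, hw0, polar_neg_right, hw1, hv, neg_zero, add_zero, add_zero]
    have h4 := (h.inv v (v + w) hv h1 e he).2
    have h5 := (h.inv v (v + -w) hv h3 e he).2
    simp only [map_add, map_neg, polar_add_left, polar_add_right, polar_neg_left, polar_neg_right] at h4 h5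
    have h6 : polar Q (e w) v = polar Q (e v) w := by rw [h.adj e he, polar_comm]
    rw [h6] at h4 h5
    have h7 : 4 * polar Q (e v) w = 0 := by linear_combination h5 - h4
    have h8 : (4 : F) ≠ 0 := by
      have : (4 : F) = 2 * 2 := by norm_num
      rw [this]
      exact mul_ne_zero h2 h2
    exact (mul_eq_zero.1 h7).resolve_left h8
  -- the component of `e v` in `W`
  set s : F := polar Q (e v) v / (2 * c) with hs
  set u : V := e v + (-s) • v with hu
  have huW : u ∈ W := by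
    rw [hmW, hu, polar_add_right, polar_smul_right, hvv, polar_comm, smul_eq_mul, hs]
    have : (2 : F) * c ≠ 0 := mul_ne_zero h2 h.c0
    rw [neg_mul, div_mul_cancel₀ _ this, add_neg_cancel]
  have hu0 : u = 0 := by
    by_contra hne
    -- a hyperbolic pair of `W`
    obtain ⟨x, hx, hx0, hxQ⟩ := huni W hWn hWd
    obtain ⟨y, hy⟩ := exists_hyp (Q := res Q W) (x := ⟨x, hx⟩) hWn hxQ (fun h1 => hx0 (congrArg Subtype.val h1))
    obtain ⟨w, hw, hw1⟩ := exists_sing_polar_one hWn hy (v := ⟨u, huW⟩) (fun h1 => hne (congrArg Subtype.val h1))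
    have h1 := hsing w w.2 hw
    have h3 : polar Q u (w : V) = 0 := by
      rw [hu, polar_add_left, h1, polar_smul_left, (hmW w).1 w.2, smul_zero, add_zero]
    have h4 : polar Q u (w : V) ≠ 0 := by
      have h5 : polar (res Q W) ⟨u, huW⟩ w = polar Q u (w : V) := rfl
      first
        | (rw [← h5, hw1]; exact one_ne_zero)
        | (rw [polar_comm] at hw1; rw [← h5, hw1]; exact one_ne_zero)
    exact h4 h3
  refine ⟨s, ?_⟩
  by_contra hne
  have h1 : e - algebraMap F (Module.End F V) s ≠ 0 := fun h3 => hne (sub_eq_zero.1 h3)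
  have h3 := h.inj _ (E.sub_mem he (E.algebraMap_mem s)) h1
  apply hv0
  apply h3
  rw [map_zero, LinearMap.sub_apply, Module.algebraMap_end_apply, ← hu0, hu, neg_smul, sub_eq_add_neg]

end Cfsg.Agent.H899.Pt
end

-- part: H899/Pt/Even
section
/-!
# Factorizations by the stabiliser of a nonsingular point, III: even dimension (helper899, S3679)

* `Cfg.false_even` : `dim V = 2 n`: contradiction.
-/

set_option autoImplicit false
set_option linter.unusedSectionVars false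
set_option linter.unusedVariables false

namespace Cfsg.Agent.H899.Pt

open Module QuadraticMap Cfsg.Agent.H951 Cfsg.Agent.H884.Cg Cfsg.Agent.H955 Cfsg.Agent.LieClassical.OrthCore
open Cfsg.Agent.H954.TSing

variable {T G : Type*} [Group T] [Finite T] [Group G] {F : Type*} [Field F] [Fintype F] {V : Type*} [AddCommGroup V]
  [Module F V] [FiniteDimensional F V]
variable {Q : QuadraticForm F V} {c : F} {r n : ℕ} {π : G →* T} {ρ : G →* Module.End F V} {A S₁ S₂ : Subgroup T}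

/-- fixed point free -/
theorem Cfg.fpf (h : Cfg Q c r n π ρ A) (hS : TwoFac A S₁ S₂) (hdim : finrank F V = 2 * n) {x y : G}
    (hx : π x ∈ S₂) (hxr : x ^ r = 1) (hx1 : x ≠ 1) (hy : π y ∈ S₁) (hyr : y ^ r = 1) (hy1 : y ≠ 1) :
    fx (ρ x) = ⊥ := by
  have h1 := h.two_n hS (by omega) hx hxr hx1 hy hyr hy1
  have h2 := finrank_fx_add_cm h.rd.ne0 (h.rpow hxr)
  exact Submodule.finrank_eq_zero.1 (by omega)

theorem Cfg.top_ne (h : Cfg Q c r n π ρ A) (hdim : finrank F V = 2 * n) : (⊤ : Submodule F V) ≠ ⊥ := by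
  intro h1
  have hn3 := h.n3
  have h3 : finrank F (⊤ : Submodule F V) = 0 := by rw [h1, finrank_bot]
  rw [finrank_top] at h3
  omega

/-- `S₁` has no `C_r × C_r` -/
theorem Cfg.noSq (h : Cfg Q c r n π ρ A) (hS : TwoFac A S₁ S₂) (hdim : finrank F V = 2 * n) {x : G}
    (hx : π x ∈ S₂) (hxr : x ^ r = 1) (hx1 : x ≠ 1) : NoSq S₁ r := by
  intro s hs t ht hsr htr hc
  obtain ⟨s, rfl, hs1, hs2⟩ := h.lift_ne hsr
  obtain ⟨t, rfl, ht1, ht2⟩ := h.lift_ne htr
  have hst : Commute s t := h.comm hs1 hc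
  have hft := h.fpf hS.symm hdim ht ht1 ht2 hx hxr hx1
  obtain ⟨i, hi, hne⟩ := exists_fixed (W := (⊤ : Submodule F V)) h.rd.prime h.rd.ne0 (h.rpow hs1) (h.rpow ht1)
    (h.comm' hs1 hc) (fun _ _ => trivial) (fun _ _ => trivial) (h.top_ne hdim) (by rw [hft, inf_bot_eq])
  have h1 : s * t ^ i = 1 := by
    by_contra h2
    apply hne
    rw [← map_pow, ← map_mul, h.fpf hS.symm hdim (x := s * t ^ i) (y := x) (by
      rw [map_mul, map_pow]
      exact S₁.mul_mem hs (S₁.pow_mem ht i)) (by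
      have hc2 : Commute s (t ^ i) := hst.pow_right i
      rw [hc2.mul_pow, hs1, ← pow_mul, mul_comm, pow_mul, ht1, one_pow, one_mul]) h2 hx hxr hx1, inf_bot_eq]
  have h2 : π s ∈ Subgroup.zpowers (π t) := by
    have h3 : s = (t ^ i)⁻¹ := mul_eq_one_iff_eq_inv.1 h1
    rw [h3, map_inv, map_pow]
    exact inv_mem (pow_mem (Subgroup.mem_zpowers _) i)
  have h3 : Subgroup.zpowers (π s) = Subgroup.zpowers (π t) := by
    refine Subgroup.eq_of_le_of_card_ge (Subgroup.zpowers_le.2 h2) ?_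
    rw [Nat.card_zpowers, Nat.card_zpowers, hsr, htr]
  rw [h3]
  exact Subgroup.mem_zpowers _

/-- the normalising element -/
theorem Cfg.exists_yg (h : Cfg Q c r n π ρ A) (hS : TwoFac A S₁ S₂) (hdim : finrank F V = 2 * n) {x : G}
    (hx : π x ∈ S₂) (hxr : x ^ r = 1) (hx1 : x ≠ 1) (hd : r ∣ Nat.card S₁) :
    ∃ y g : G, ∃ k : ℕ, π y ∈ S₁ ∧ π g ∈ S₁ ∧ y ^ r = 1 ∧ y ≠ 1 ∧ g * y = y ^ k * g ∧ y ^ k ≠ y := by
  have := hS.simple₁
  have hno := h.noSq hS hdim hx hxr hx1
  obtain ⟨y, g, h1, h2, h3⟩ := exists_norm (S := S₁) (fun h4 => hS.na₁ fun a ha b hb =>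
    congrArg Subtype.val (h4 ⟨a, ha⟩ ⟨b, hb⟩)) h.rd.prime (by have := h.rd.two_lt; omega) hd (by
    intro s t hs ht hst
    have h4 := hno s s.2 t t.2 (by rw [Subgroup.orderOf_coe, hs]) (by rw [Subgroup.orderOf_coe, ht])
      (congrArg Subtype.val hst)
    obtain ⟨i, hi⟩ := Subgroup.mem_zpowers_iff.1 h4
    exact Subgroup.mem_zpowers_iff.2 ⟨i, Subtype.ext (by push_cast; exact hi)⟩)
  obtain ⟨k, hk⟩ := mem_powers_iff_mem_zpowers.2 h2
  have hk' : y ^ k = g * y * g⁻¹ := hk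
  obtain ⟨ŷ, hy1, hy2, hy3⟩ := h.lift_ne (t := (y : T)) (by rw [Subgroup.orderOf_coe, h1])
  obtain ⟨ĝ, hg⟩ := h.surj (g : T)
  have hy1S : π ŷ ∈ S₁ := by rw [hy1]; exact y.2
  have hkk : π (ŷ ^ k) = π (ĝ * ŷ * ĝ⁻¹) := by
    rw [map_pow, map_mul, map_mul, map_inv, hg, hy1]
    have := congrArg Subtype.val hk'
    push_cast at this
    exact this
  have hyk : (ŷ ^ k) ^ r = 1 := by rw [← pow_mul, mul_comm, pow_mul, hy2, one_pow]
  have hcr : (ĝ * ŷ * ĝ⁻¹) ^ r = 1 := by rw [conj_pow, hy2, mul_one, mul_inv_cancel]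
  have hz1 : π ((ŷ ^ k)⁻¹ * (ĝ * ŷ * ĝ⁻¹)) = 1 := by rw [map_mul, map_inv, hkk, inv_mul_cancel]
  have hz : (ŷ ^ k)⁻¹ * (ĝ * ŷ * ĝ⁻¹) = 1 := by
    by_contra hne
    refine h.pne ?_ hne hz1
    obtain ⟨h5, h6⟩ := h.ker _ hz1
    set z := (ŷ ^ k)⁻¹ * (ĝ * ŷ * ĝ⁻¹) with hz
    have h7 : ĝ * ŷ * ĝ⁻¹ = ŷ ^ k * z := by rw [hz]; group
    have hcz : Commute (ŷ ^ k) z := (h6 _).symm
    rw [h7, hcz.mul_pow, hyk, one_mul] at hcr
    exact hcr
  have hyk' : ŷ ^ k = ĝ * ŷ * ĝ⁻¹ := by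
    rw [inv_mul_eq_one] at hz
    exact hz
  refine ⟨ŷ, ĝ, k, hy1S, by rw [hg]; exact g.2, hy2, hy3, by rw [hyk']; group, fun h4 => h3 ?_⟩
  apply Subtype.ext
  rw [hyk'] at h4
  have h5 := congrArg π h4
  rw [map_mul, map_mul, map_inv, hg, hy1] at h5
  push_cast
  exact h5

end Cfsg.Agent.H899.Pt
end

-- part: H899/Pt/Even2
section
/-!
# Factorizations by the stabiliser of a nonsingular point, IV: even dimension, the common trace (helper899, S3679)

* `Cfg.exists_e` : `ρ y + ρ y⁻¹ = ρ (x ^ i) + ρ (x ^ i)⁻¹`.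
-/

set_option autoImplicit false
set_option linter.unusedSectionVars false
set_option linter.unusedVariables false

namespace Cfsg.Agent.H899.Pt

open Module QuadraticMap Cfsg.Agent.H951 Cfsg.Agent.H884.Cg Cfsg.Agent.H955 Cfsg.Agent.LieClassical.OrthCore
open Cfsg.Agent.H954.TSing

variable {T G : Type*} [Group T] [Finite T] [Group G] {F : Type*} [Field F] [Fintype F] {V : Type*} [AddCommGroup V]
  [Module F V] [FiniteDimensional F V]
variable {Q : QuadraticForm F V} {c : F} {r n : ℕ} {π : G →* T} {ρ : G →* Module.End F V} {A S₁ S₂ : Subgroup T}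

omit [Finite T] in
theorem rho_mul (g h : G) (v : V) : ρ (g * h) v = ρ g (ρ h v) := by rw [map_mul]; rfl

omit [Finite T] in
theorem rho_inv (g : G) (v : V) : ρ g (ρ g⁻¹ v) = v := by
  rw [← rho_mul, mul_inv_cancel, map_one]; rfl

omit [Finite T] in
theorem rho_inv' (g : G) (v : V) : ρ g⁻¹ (ρ g v) = v := by
  rw [← rho_mul, inv_mul_cancel, map_one]; rfl

omit [Finite T] in
theorem act_of_fx {x y : G} (hc : Commute x y) {i : ℕ} {v : V} (hv : v ∈ fx (ρ (y * x ^ i))) :
    ρ y v = ρ (x ^ i)⁻¹ v ∧ ρ y⁻¹ v = ρ (x ^ i) v := by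
  have h1 : ρ (y * x ^ i) v = v := mem_fx.1 hv
  have h2 : ρ (x ^ i * y) v = v := by rw [(hc.pow_left i).eq]; exact h1
  constructor
  · rw [rho_mul] at h2
    conv_rhs => rw [← h2]
    rw [rho_inv']
  · rw [rho_mul] at h1
    conv_lhs => rw [← h1]
    rw [rho_inv']

omit [Finite T] in
theorem act_pow_of_fx {x y : G} (hc : Commute x y) {i : ℕ} {v : V} (hv : v ∈ fx (ρ (y * x ^ i))) (k : ℕ) :
    ρ (y ^ k) v = ρ (x ^ (i * k))⁻¹ v := by
  have h1 : v ∈ fx (ρ (y ^ k * x ^ (i * k))) := by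
    have h2 := mem_fx_pow hv k
    rwa [((hc.pow_left i).symm).mul_pow, ← pow_mul] at h2
  exact (act_of_fx (hc.pow_right k) h1).1

theorem Cfg.pow_eq (h : Cfg Q c r n π ρ A) (hS : TwoFac A S₁ S₂) (hdim : finrank F V = 2 * n) {x y : G}
    (hx : π x ∈ S₂) (hxr : x ^ r = 1) (hx1 : x ≠ 1) (hy : π y ∈ S₁) (hyr : y ^ r = 1) (hy1 : y ≠ 1) {m l : ℕ} {a : V}
    (ha : a ≠ 0) (hm : ρ (x ^ m)⁻¹ a = ρ (x ^ l)⁻¹ a) : x ^ m = x ^ l := by
  by_contra hne
  have h1 : x ^ l * (x ^ m)⁻¹ ≠ 1 := fun h2 => hne (mul_inv_eq_one.1 h2).symm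
  have h2 : (x ^ l * (x ^ m)⁻¹) ^ r = 1 := by
    have hc : Commute (x ^ l) (x ^ m)⁻¹ := (Commute.pow_pow_self x l m).inv_right
    rw [hc.mul_pow, inv_pow, ← pow_mul, ← pow_mul, mul_comm l, mul_comm m, pow_mul, pow_mul, hxr, one_pow, one_pow,
      inv_one, mul_one]
  have h3 := h.fpf hS hdim (x := x ^ l * (x ^ m)⁻¹) (by
    rw [map_mul, map_inv, map_pow, map_pow]
    exact S₂.mul_mem (S₂.pow_mem hx l) (S₂.inv_mem (S₂.pow_mem hx m))) h2 h1 hy hyr hy1
  apply ha
  have h4 : a ∈ fx (ρ (x ^ l * (x ^ m)⁻¹)) := by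
    rw [mem_fx, rho_mul, hm, rho_inv]
  rw [h3] at h4
  exact h4

theorem Cfg.swap (h : Cfg Q c r n π ρ A) (hS : TwoFac A S₁ S₂) (hdim : finrank F V = 2 * n) {x y g : G} {k : ℕ}
    (hx : π x ∈ S₂) (hxr : x ^ r = 1) (hx1 : x ≠ 1) (hy : π y ∈ S₁) (hg : π g ∈ S₁) (hyr : y ^ r = 1) (hy1 : y ≠ 1)
    (hgy : g * y = y ^ k * g) (hyk : y ^ k ≠ y) {i j : ℕ} {Z₁ Z₂ : Submodule F V}
    (h1 : Z₁ ≤ fx (ρ (y * x ^ i))) (h2 : Z₂ ≤ fx (ρ (y * x ^ j))) (hsup : Z₁ ⊔ Z₂ = ⊤) (hinf : Z₁ ⊓ Z₂ = ⊥)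
    (hi1 : ∀ m : ℕ, _root_.Cfsg.Agent.H951.Inv (ρ (x ^ m)⁻¹) Z₁) (hi2 : ∀ m : ℕ, _root_.Cfsg.Agent.H951.Inv (ρ (x ^ m)⁻¹) Z₂) (h0 : Z₁ ≠ ⊥) :
    x ^ (j * k) = x ^ i := by
  obtain ⟨v, hv, hv0⟩ := (Submodule.ne_bot_iff _).1 h0
  have hxy : Commute x y := h.comm hxr (hS.comm _ hy _ hx).symm
  have hxg : Commute x g := h.comm hxr (hS.comm _ hg _ hx).symm
  obtain ⟨a, ha, b, hb, hab⟩ := Submodule.mem_sup.1 (show ρ g v ∈ Z₁ ⊔ Z₂ by rw [hsup]; trivial)
  have h3 : ρ (y ^ k) (ρ g v) = ρ (x ^ i)⁻¹ (ρ g v) := by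
    rw [← rho_mul, ← hgy, rho_mul, (act_of_fx hxy (h1 hv)).1, ← rho_mul, ← rho_mul,
      ((hxg.pow_left i).inv_left).eq]
  rw [← hab, map_add, map_add, act_pow_of_fx hxy (h1 ha) k, act_pow_of_fx hxy (h2 hb) k] at h3
  have h4 : ρ (x ^ (i * k))⁻¹ a - ρ (x ^ i)⁻¹ a = ρ (x ^ i)⁻¹ b - ρ (x ^ (j * k))⁻¹ b := by
    rw [sub_eq_sub_iff_add_eq_add, h3, add_comm]
  have h5 : ρ (x ^ (i * k))⁻¹ a - ρ (x ^ i)⁻¹ a ∈ Z₁ ⊓ Z₂ := by
    refine ⟨Z₁.sub_mem (hi1 _ a ha) (hi1 _ a ha), ?_⟩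
    rw [h4]
    exact Z₂.sub_mem (hi2 _ b hb) (hi2 _ b hb)
  have h6 : ρ (x ^ (i * k))⁻¹ a = ρ (x ^ i)⁻¹ a := by
    rw [hinf] at h5
    exact sub_eq_zero.1 h5
  have h7 : ρ (x ^ (j * k))⁻¹ b = ρ (x ^ i)⁻¹ b := by
    rw [h6, sub_self] at h4
    exact (sub_eq_zero.1 h4.symm).symm
  have ha0 : a = 0 := by
    by_contra hane
    have h8 := h.pow_eq hS hdim hx hxr hx1 hy hyr hy1 hane h6
    -- `y ^ k = y` on `Z₁`
    have h9 : ρ (y ^ k) v = ρ y v := by
      rw [act_pow_of_fx hxy (h1 hv) k, h8, (act_of_fx hxy (h1 hv)).1]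
    have h10 : y⁻¹ * y ^ k ≠ 1 := fun h11 => hyk (inv_mul_eq_one.1 h11).symm
    have h11 : (y⁻¹ * y ^ k) ^ r = 1 := by
      have hc : Commute y⁻¹ (y ^ k) := (Commute.self_pow y k).inv_left
      rw [hc.mul_pow, inv_pow, ← pow_mul, mul_comm k, pow_mul, hyr, one_pow, inv_one, mul_one]
    have h12 := h.fpf hS.symm hdim (x := y⁻¹ * y ^ k) (by
      rw [map_mul, map_inv, map_pow]
      exact S₁.mul_mem (S₁.inv_mem hy) (S₁.pow_mem hy k)) h11 h10 hx hxr hx1
    apply hv0
    have h13 : v ∈ fx (ρ (y⁻¹ * y ^ k)) := by rw [mem_fx, rho_mul, h9, rho_inv']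
    rw [h12] at h13
    exact h13
  have hb0 : b ≠ 0 := by
    intro hb0
    rw [ha0, hb0, add_zero] at hab
    exact hv0 (h.injE g (by rw [← hab, map_zero]))
  exact h.pow_eq hS hdim hx hxr hx1 hy hyr hy1 hb0 h7

/-- the common trace -/
theorem Cfg.exists_e (h : Cfg Q c r n π ρ A) (hS : TwoFac A S₁ S₂) (hdim : finrank F V = 2 * n) {x y g : G} {k : ℕ}
    (hx : π x ∈ S₂) (hxr : x ^ r = 1) (hx1 : x ≠ 1) (hy : π y ∈ S₁) (hg : π g ∈ S₁) (hyr : y ^ r = 1) (hy1 : y ≠ 1)
    (hgy : g * y = y ^ k * g) (hyk : y ^ k ≠ y) : ∃ i : ℕ, ρ y + ρ y⁻¹ = ρ (x ^ i) + ρ (x ^ i)⁻¹ := by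
  have hn3 := h.n3
  have hxy : Commute x y := h.comm hxr (hS.comm _ hy _ hx).symm
  have hXY : Commute (ρ x) (ρ y) := h.comm' hxr (hS.comm _ hy _ hx).symm
  have hfx := h.fpf hS hdim hx hxr hx1 hy hyr hy1
  have hfy := h.fpf hS.symm hdim hy hyr hy1 hx hxr hx1
  obtain ⟨i, hi, hne⟩ := exists_fixed (W := (⊤ : Submodule F V)) h.rd.prime h.rd.ne0 (h.rpow hyr) (h.rpow hxr)
    hXY.symm (fun _ _ => trivial) (fun _ _ => trivial) (h.top_ne hdim) (by rw [hfx, inf_bot_eq])
  rw [top_inf_eq, ← map_pow, ← map_mul] at hne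
  set w := y * x ^ i with hw
  have hwr : w ^ r = 1 := by
    rw [hw, ((hxy.pow_left i).symm).mul_pow, hyr, ← pow_mul, mul_comm, pow_mul, hxr, one_pow, one_mul]
  have hw1 : w ≠ 1 := by
    intro h1
    have h2 : y = (x ^ i)⁻¹ := mul_eq_one_iff_eq_inv.1 h1
    refine h.pne hyr hy1 (hS.inf hy ?_)
    rw [h2, map_inv, map_pow]
    exact S₂.inv_mem (S₂.pow_mem hx i)
  have hsum := finrank_fx_add_cm h.rd.ne0 (h.rpow hwr)
  have hpos : 0 < finrank F (fx (ρ w)) := Nat.pos_of_ne_zero fun h1 => hne (Submodule.finrank_eq_zero.1 h1)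
  obtain ⟨q, hq⟩ := h.rd.dvd_cm (h.rpow hwr)
  have hle := h.rd.le_cm (h.rpow hwr) (h.rne hw1)
  have hq1 : q = 1 := by
    have h1 : q < 2 := by
      by_contra hcon
      have := Nat.mul_le_mul_left n (show 2 ≤ q by omega)
      omega
    have h2 : q ≠ 0 := by
      rintro rfl
      omega
    omega
  rw [hq1, mul_one] at hq
  have hcxw : Commute x w := by
    show x * (y * x ^ i) = y * x ^ i * x
    rw [← mul_assoc, hxy.eq, mul_assoc, mul_assoc, (Commute.self_pow x i).eq]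
  have hXw : ∀ u : G, Commute u x → Commute u y → Commute (ρ u) (ρ w) := by
    intro u h1 h2
    show ρ u * ρ w = ρ w * ρ u
    rw [← map_mul, ← map_mul, hw, (h2.mul_right (h1.pow_right i)).eq]
  have hinv1 : ∀ m : ℕ, _root_.Cfsg.Agent.H951.Inv (ρ (x ^ m)⁻¹) (fx (ρ w)) := fun m =>
    inv_fx_of_commute (hXw _ (((Commute.refl x).pow_left m).inv_left) ((hxy.pow_left m).inv_left))
  have hinv2 : ∀ m : ℕ, _root_.Cfsg.Agent.H951.Inv (ρ (x ^ m)⁻¹) (cm (ρ w)) := fun m =>
    inv_cm_of_commute (hXw _ (((Commute.refl x).pow_left m).inv_left) ((hxy.pow_left m).inv_left))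
  obtain ⟨j, hj, hZ2⟩ := h.rd.exists_triv (h.rpow hyr) (h.rpow hxr) hXY.symm
    (inv_cm_of_commute (hXw _ hxy.symm (Commute.refl y)))
    (inv_cm_of_commute (hXw _ (Commute.refl x) hxy)) hq (by rw [hfx, inf_bot_eq])
  rw [← map_pow, ← map_mul] at hZ2
  have hcp := isCompl_fx_cm h.rd.ne0 (h.rpow hwr)
  have e1 := h.swap hS hdim hx hxr hx1 hy hg hyr hy1 hgy hyk (le_refl (fx (ρ w))) hZ2 hcp.sup_eq_top hcp.inf_eq_bot
    hinv1 hinv2 hne
  have e2 := h.swap hS hdim hx hxr hx1 hy hg hyr hy1 hgy hyk hZ2 (le_refl (fx (ρ w)))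
    (by rw [sup_comm]; exact hcp.sup_eq_top) (by rw [inf_comm]; exact hcp.inf_eq_bot) hinv2 hinv1
    (fun h1 => by rw [h1, finrank_bot] at hq; omega)
  -- `x ^ i ≠ 1`
  have hxi : x ^ i ≠ 1 := by
    intro h1
    rw [hw, h1, mul_one] at hne
    exact hne hfy
  have hxio : orderOf (x ^ i) = r := by
    have := Fact.mk h.rd.prime
    exact orderOf_eq_prime (by rw [← pow_mul, mul_comm, pow_mul, hxr, one_pow]) hxi
  have hyo : orderOf y = r := by
    have := Fact.mk h.rd.prime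
    exact orderOf_eq_prime hyr hy1
  have h1 : (x ^ i) ^ (k * k) = x ^ i := by
    rw [← pow_mul, ← mul_assoc, pow_mul, e2, ← pow_mul, e1]
  have h2 : (r : ℤ) ∣ (k : ℤ) * k - 1 := by
    rw [← hxio, orderOf_dvd_iff_zpow_eq_one, zpow_sub, zpow_one, ← Nat.cast_mul, zpow_natCast, h1, mul_inv_cancel]
  have h3 : (r : ℤ) ∣ ((k : ℤ) - 1) * (k + 1) := by
    have : ((k : ℤ) - 1) * (k + 1) = (k : ℤ) * k - 1 := by ring
    rw [this]
    exact h2
  have h4 : (r : ℤ) ∣ (k : ℤ) + 1 := by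
    rcases (Nat.prime_iff_prime_int.1 h.rd.prime).dvd_or_dvd h3 with h4 | h4
    · exfalso
      apply hyk
      rw [← hyo, orderOf_dvd_iff_zpow_eq_one, zpow_sub, zpow_one, zpow_natCast, mul_inv_eq_one] at h4
      exact h4
    · exact h4
  have h5 : x ^ j = (x ^ i)⁻¹ := by
    rw [← e2, pow_mul]
    rw [← hxio, orderOf_dvd_iff_zpow_eq_one, zpow_add, zpow_one, zpow_natCast] at h4
    exact mul_eq_one_iff_eq_inv.1 h4
  refine ⟨i, LinearMap.ext fun v => ?_⟩
  obtain ⟨a, ha, b, hb, rfl⟩ := Submodule.mem_sup.1 (show v ∈ fx (ρ w) ⊔ cm (ρ w) by rw [hcp.sup_eq_top]; trivial)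
  have h6 := act_of_fx hxy ha
  have h7 := act_of_fx hxy (hZ2 hb)
  rw [h5, inv_inv] at h7
  simp only [LinearMap.add_apply, map_add, h6.1, h6.2, h7.1, h7.2]
  abel

end Cfsg.Agent.H899.Pt
end
end

-- part: H899/Pt/Inst
section
prune_inst 0x300005006422100000180500800002202000000000030400054002000308884020008e00b2300002008000004008002000000000c00000000000000000000000100044009208a10ca60010000000000000000000000000000000000000000000000000000
set_option linter.all false
open scoped Cfsg.Agent.FastGrp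

-- part: H899/Pt/Even3
section
/-!
# Factorizations by the stabiliser of a nonsingular point, V: even dimension (helper899, S3679)

* `Cfg.false_even` : `dim V = 2 n`: contradiction.
-/

set_option autoImplicit false
set_option linter.unusedSectionVars false
set_option linter.unusedVariables false

namespace Cfsg.Agent.H899.Pt

open Module QuadraticMap Cfsg.Agent.H951 Cfsg.Agent.H884.Cg Cfsg.Agent.H955 Cfsg.Agent.LieClassical.OrthCore
open Cfsg.Agent.H954.TSing Cfsg.Agent.LieClassical.OrthTrans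

variable {T G : Type*} [Group T] [Finite T] [Group G] {F : Type*} [Field F] [Fintype F] {V : Type*} [AddCommGroup V]
  [Module F V] [FiniteDimensional F V]
variable {Q : QuadraticForm F V} {c : F} {r n : ℕ} {π : G →* T} {ρ : G →* Module.End F V} {A S₁ S₂ : Subgroup T}

omit [Finite T] in
theorem comm_adjoin {e f : Module.End F V} (h : Commute e f) {a : Module.End F V}
    (ha : a ∈ Algebra.adjoin F {e}) : Commute a f := by
  have h1 : Algebra.adjoin F {e} ≤ Subalgebra.centralizer F {f} := by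
    refine Algebra.adjoin_le ?_
    intro b hb
    rw [Set.mem_singleton_iff] at hb
    subst hb
    exact Subalgebra.mem_centralizer_iff F |>.2 fun g hg => by
      rw [Set.mem_singleton_iff] at hg
      subst hg
      exact h.symm
  exact (Subalgebra.mem_centralizer_iff F |>.1 (h1 ha) f rfl).symm

omit [Finite T] in
theorem polar_self_adj_inv (h : Cfg Q c r n π ρ A) (g : G) (u w : V) :
    polar Q (ρ g u) w = polar Q u (ρ g⁻¹ w) := by
  conv_lhs => rw [← rho_inv (ρ := ρ) g w]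
  rw [polar_isom (h.iso g)]

theorem Cfg.false_even (h : Cfg Q c r n π ρ A) (hS : TwoFac A S₁ S₂) (hdim : finrank F V = 2 * n)
    (hd₁ : r ∣ Nat.card S₁) (hd₂ : r ∣ Nat.card S₂) : False := by
  have hn3 := h.n3
  have hF := Fact.mk h.rd.prime
  obtain ⟨x₀, hx₀⟩ := exists_prime_orderOf_dvd_card' r hd₂
  obtain ⟨x, hx, hxr, hx1⟩ := h.lift_ne (t := (x₀ : T)) (by rw [Subgroup.orderOf_coe, hx₀])
  have hxS : π x ∈ S₂ := by rw [hx]; exact x₀.2
  obtain ⟨y, g, k, hy, hg, hyr, hy1, hgy, hyk⟩ := h.exists_yg hS hdim hxS hxr hx1 hd₁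
  obtain ⟨i, hi⟩ := h.exists_e hS hdim hxS hxr hx1 hy hg hyr hy1 hgy hyk
  have hxy : Commute x y := h.comm hxr (hS.comm _ hy _ hxS).symm
  have hfx := h.fpf hS hdim hxS hxr hx1 hy hyr hy1
  have hfy := h.fpf hS.symm hdim hy hyr hy1 hxS hxr hx1
  have hcc : ∀ {u v : G}, Commute u v → Commute (ρ u) (ρ v) := fun {u v} huv => by
    show ρ u * ρ v = ρ v * ρ u
    rw [← map_mul, huv.eq, map_mul]
  set e : Module.End F V := ρ y + ρ y⁻¹ with he
  -- commutation
  have hex : ∀ u : G, Commute x u → Commute e (ρ u) := by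
    intro u hu
    rw [hi]
    exact (hcc (hu.pow_left i)).add_left (hcc (hu.pow_left i).inv_left)
  have hey : ∀ u : G, Commute y u → Commute e (ρ u) := by
    intro u hu
    exact (hcc hu).add_left (hcc hu.inv_left)
  have heA : ∀ a : G, π a ∈ A → Commute e (ρ a) := by
    intro a ha
    obtain ⟨s, t, rfl, hs, ht⟩ := h.exists_dec hS hxS hxr hy hyr ha
    rw [map_mul]
    exact (hex s hs).mul_right (hey t ht)
  -- the algebra
  let E := Algebra.adjoin F {e}
  have heE : e ∈ E := Algebra.self_mem_adjoin_singleton F e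
  have hEc : ∀ a ∈ E, ∀ b ∈ E, a * b = b * a := by
    intro a ha b hb
    exact (comm_adjoin (comm_adjoin (Commute.refl e) hb).symm ha).eq
  have hcm : Nondeg (res Q (cm (ρ x))) := nondeg_cm h.nondeg (h.iso x) h.rd.ne0 (h.rpow hxr)
  have hcmd : finrank F (cm (ρ x)) = 2 * n := h.two_n hS (by omega) hxS hxr hx1 hy hyr hy1
  have hEE : EE Q c E := by
    refine ⟨h.c0, ?_, hEc, ?_, ?_, ?_⟩
    · obtain ⟨v, -, -, hv⟩ := h.uni _ hcm (by omega) c
      exact ⟨v, hv⟩
    · intro a ha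
      induction ha using Algebra.adjoin_induction with
      | mem b hb =>
        rw [Set.mem_singleton_iff] at hb
        subst hb
        intro u w
        rw [he, LinearMap.add_apply, LinearMap.add_apply, polar_add_left, polar_add_right,
          polar_self_adj_inv h, polar_self_adj_inv h, inv_inv, add_comm]
      | algebraMap t =>
        intro u w
        rw [Module.algebraMap_end_apply, Module.algebraMap_end_apply, polar_smul_left, polar_smul_right]
      | add a b ha hb iha ihb =>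
        intro u w
        rw [LinearMap.add_apply, LinearMap.add_apply, polar_add_left, polar_add_right, iha, ihb]
      | mul a b ha hb iha ihb =>
        intro u w
        rw [Module.End.mul_apply, iha, ihb, ← Module.End.mul_apply, hEc b hb a ha]
    · intro a ha ha0
      -- the kernel
      have hK : ∀ u : G, Commute x u → _root_.Cfsg.Agent.H951.Inv (ρ u) (LinearMap.ker a) := by
        intro u hu v hv
        rw [LinearMap.mem_ker] at hv ⊢
        have h1 : Commute a (ρ u) := comm_adjoin (hex u hu) ha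
        rw [← Module.End.mul_apply, h1.eq, Module.End.mul_apply, hv, map_zero]
      have h1 := h.rd.dvd (h.rpow hxr) (hK x (Commute.refl x)) (by rw [hfx, inf_bot_eq])
      obtain ⟨q, hq⟩ := h1
      have h2 : finrank F (LinearMap.ker a) ≤ finrank F V := Submodule.finrank_le _
      have h3 : q < 3 := by
        by_contra hcon
        have := Nat.mul_le_mul_left n (show 3 ≤ q by omega)
        omega
      have h4 : q = 0 ∨ q = 1 ∨ q = 2 := by omega
      rcases h4 with rfl | rfl | rfl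
      · rw [mul_zero] at hq
        exact LinearMap.ker_eq_bot.1 (Submodule.finrank_eq_zero.1 hq)
      · exfalso
        rw [mul_one] at hq
        have h5 := h.triv hS hxS hxr hy hyr (hK x (Commute.refl x))
          (fun u hu => hK u (h.comm hxr (hS.comm _ hu _ hxS).symm)) hq (by rw [hfx, inf_bot_eq])
        rw [hfy] at h5
        rw [le_bot_iff.1 h5, finrank_bot] at hq
        omega
      · exfalso
        apply ha0
        have h5 : LinearMap.ker a = ⊤ := Submodule.eq_top_of_finrank_eq (by omega)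
        exact LinearMap.ker_eq_top.1 h5
    · intro v w hv hw a ha
      obtain ⟨b, hb, hbv⟩ := h.tr v w hv hw
      have h1 : Commute a (ρ b) := comm_adjoin (heA b hb) ha
      have h2 : a (ρ b v) = ρ b (a v) := by
        rw [← Module.End.mul_apply, h1.eq, Module.End.mul_apply]
      rcases hbv with h3 | h3
      · rw [← h3, h2, h.iso, polar_isom (h.iso b)]
        exact ⟨rfl, rfl⟩
      · have h4 : w = -ρ b v := by rw [h3, neg_neg]
        rw [h4, map_neg, h2, QuadraticMap.map_neg, h.iso, polar_neg_left, polar_neg_right, neg_neg,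
          polar_isom (h.iso b)]
        exact ⟨rfl, rfl⟩
  -- scalars
  obtain ⟨t, ht⟩ : ∃ t : F, e = algebraMap F (Module.End F V) t := by
    by_cases h2 : (2 : F) = 0
    · exact hEE.scal_even h2 heE
    · exact hEE.scal_odd h2 h.nondeg (by omega) (fun Z hZ hZ3 => h.uni Z hZ hZ3 0) heE
  obtain ⟨v, -, hv0⟩ : ∃ v ∈ (⊤ : Submodule F V), v ≠ 0 := (Submodule.ne_bot_iff _).1 (h.top_ne hdim)
  let Z := Submodule.span F {v, ρ y v}
  have hvZ : v ∈ Z := Submodule.subset_span (by simp)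
  have hyZ : ρ y v ∈ Z := Submodule.subset_span (by simp)
  have hyy : ρ y (ρ y v) ∈ Z := by
    have h1 : e (ρ y v) = t • ρ y v := by rw [ht, Module.algebraMap_end_apply]
    rw [he, LinearMap.add_apply, rho_inv'] at h1
    have h2 : ρ y (ρ y v) = t • ρ y v - v := by rw [← h1, add_sub_cancel_right]
    rw [h2]
    exact Z.sub_mem (Z.smul_mem t hyZ) hvZ
  have hZi : _root_.Cfsg.Agent.H951.Inv (ρ y) Z := by
    have h1 : Z ≤ Z.comap (ρ y) := by
      refine Submodule.span_le.2 ?_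
      intro u hu
      rcases hu with rfl | hu
      · exact hyZ
      · rw [Set.mem_singleton_iff] at hu
        subst hu
        exact hyy
    exact fun u hu => h1 hu
  have h1 := h.rd.le_finrank (h.rpow hyr) hZi (by rw [hfy, inf_bot_eq])
    (fun h2 => hv0 (by rw [h2] at hvZ; exact hvZ))
  have h2 : finrank F Z ≤ 2 := by
    classical
    have h3 := finrank_span_finset_le_card (R := F) (M := V) ({v, ρ y v} : Finset V)
    rw [Finset.coe_insert, Finset.coe_singleton] at h3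
    exact h3.trans Finset.card_le_two
  omega

end Cfsg.Agent.H899.Pt
end

-- part: H899/Pt/Inst
section
/-!
# Factorizations by the stabiliser of a nonsingular point, VI: the groups (helper899, S3679)

* `false_pt` : `T = PΩ(Q)`, `dim V = 2 m` (plus type) or `dim V = 2 m + 1`, `m ≥ 4` even, `M` fixes a nonsingular point
  `⟨v⟩` (not of plus type if the dimension is odd): no factorization `T = A M`, `A ≅ S ^ l`, `l ≥ 2`.
-/

set_option autoImplicit false
set_option linter.unusedSectionVars false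
set_option linter.unusedVariables false

namespace Cfsg.Agent.H899.Pt

open Module QuadraticMap Cfsg Cfsg.Geo Cfsg.Agent.H884.Cg Cfsg.Agent.H955 Cfsg.Agent.LieClassical.OrthCore
open Cfsg.Agent.H954.TSing Cfsg.Agent.LieClassical.OrthTrans Cfsg.Agent.H899.CG
open Cfsg.Agent.H951 (fx cm Inv mem_fx)
open Cfsg.Agent.H884.El (pre PP exists_pp lin mem_pre exists_omega exists_g finrank_cm_conj Iso ord_eq orderOf_mk
  finrank_V lin_iso inv_of_mem)
open scoped MatrixGroups Matrix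

universe u

section Uni

variable {F : Type*} [Field F] [Fintype F] {V : Type*} [AddCommGroup V] [Module F V] [FiniteDimensional F V]

theorem exists_norm_mem {Q : QuadraticForm F V} {Z : Submodule F V} (hZ : Nondeg (res Q Z)) (h3 : 3 ≤ finrank F Z)
    (d : F) : ∃ v ∈ Z, v ≠ 0 ∧ Q v = d := by
  obtain ⟨x, hx0, hx⟩ := exists_singular (res Q Z) h3
  obtain ⟨y, hy⟩ := exists_hyp hZ hx hx0
  have hx' : Q (x : V) = 0 := hx
  have hy1 : Q (y : V) = 0 := hy.right
  have hy2 : polar Q (x : V) (y : V) = 1 := hy.pair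
  refine ⟨(x : V) + d • (y : V), Z.add_mem x.2 (Z.smul_mem d y.2), fun h => ?_, ?_⟩
  · have h1 : polar Q (y : V) ((x : V) + d • (y : V)) = 1 := by
      rw [polar_add_right, polar_smul_right, polar_self', hy1, mul_zero, smul_zero, add_zero, polar_comm, hy2]
    rw [h, polar_zero_right] at h1
    exact zero_ne_one h1
  · rw [Q_add, QuadraticMap.map_smul, hx', hy1, polar_smul_right, hy2]
    simp

end Uni

section Fix

/-- an element of prime order `r` is conjugate into every subgroup of index prime to `r` -/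
theorem exists_conj_mem {T : Type*} [Group T] [Finite T] {r : ℕ} (hr : r.Prime) {M : Subgroup T}
    (hM : ¬ r ∣ M.index) {t : T} (ht : orderOf t = r) : ∃ g : T, g⁻¹ * t * g ∈ M := by
  have := Fact.mk hr
  have hp : IsPGroup r (Subgroup.zpowers t) := IsPGroup.of_card (n := 1) (by rw [Nat.card_zpowers, ht, pow_one])
  obtain ⟨z, hz⟩ := hp.nonempty_fixed_point_of_prime_not_dvd_card (T ⧸ M) hM
  induction z using QuotientGroup.induction_on with
  | H g =>
    refine ⟨g, ?_⟩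
    have h1 := hz ⟨t, Subgroup.mem_zpowers t⟩
    have h2 : ((t * g : T) : T ⧸ M) = (g : T ⧸ M) := h1
    rw [eq_comm, QuotientGroup.eq] at h2
    rwa [← mul_assoc] at h2

end Fix

variable {ι : Type} [Fintype ι] [DecidableEq ι] {F : Type u} [Field F] [Fintype F] {Q : QuadraticForm F (ι → F)}

theorem rep_iso (g : Omega F (⇑Q)) (v : ι → F) : Q (rep (⇑Q) g v) = Q v := by
  show Q (Matrix.toLin' _ v) = Q v
  rw [Matrix.toLin'_apply]
  exact Cfsg.Agent.LieClassical.OrthFinite.mem_isometryGroup_iff.1 (g : isometryGroup F (⇑Q)).2 v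

/-- `Ω(Q)` is transitive on the vectors of norm `c ≠ 0` -/
theorem trans_omega (hQ : Nondeg Q) (h5 : 5 ≤ Fintype.card ι) {v w : ι → F} (hv : Q v ≠ 0) (hvw : Q w = Q v) :
    ∃ g : Omega F (⇑Q), rep (⇑Q) g v = w := by
  have hG : Good Q := LieClassical.OrthFinite.good_of_finite hQ (by rwa [finrank_V])
  have h0 : ∀ {z : ι → F}, Q z ≠ 0 → z ≠ 0 := by
    rintro z hz rfl
    exact hz (QuadraticMap.map_zero Q)
  obtain ⟨g, hg, hgv⟩ := hG.trans_norm (h0 hv) (h0 (by rw [hvw]; exact hv)) hvw.symm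
  rw [← hG.commutator_eq_E, ← LieClassical.OrthFinite.map_Omega] at hg
  obtain ⟨x, hx, rfl⟩ := hg
  exact ⟨⟨x, hx⟩, hgv⟩

variable {A M : Subgroup (POmega F (⇑Q))} {S : Type*} [Group S] [Finite S] {l : ℕ} {r m : ℕ} {v : ι → F}

/-- `a v = ± v` for `π a ∈ M` -/
theorem pm_of_mem (hv : Q v ≠ 0) (hM : pre (⇑Q) M ≤ subspaceStabilizer (Submodule.span F {v})) {a : Omega F (⇑Q)}
    (ha : QuotientGroup.mk' (Subgroup.center (Omega F (⇑Q))) a ∈ M) :
    rep (⇑Q) a v = v ∨ rep (⇑Q) a v = -v := by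
  have h1 := inv_of_mem (hM (mem_pre.2 ha)) v (Submodule.mem_span_singleton_self v)
  obtain ⟨s, hs⟩ := Submodule.mem_span_singleton.1 h1
  have hs' : rep (⇑Q) a v = s • v := hs.symm
  have h2 := rep_iso a v
  rw [hs', QuadraticMap.map_smul, smul_eq_mul] at h2
  have h3 : s * s = 1 := mul_right_cancel₀ hv (by rw [h2, one_mul])
  rcases mul_self_eq_one_iff.1 h3 with h4 | h4
  · left
    rw [hs', h4, one_smul]
  · right
    rw [hs', h4, neg_smul, one_smul]

theorem false_pt (hD : H390.Lift.Data Q) (hQ : Nondeg Q) (hr : PP (Nat.card F) m r) (hme : Even m) (hm : 4 ≤ m)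
    (hf : Fac (POmega F (⇑Q)) A M S l) (hS : IsSimpleGroup S) (hSna : ¬ IsMulCommutative S)
    (hv : Q v ≠ 0) (hM : pre (⇑Q) M ≤ subspaceStabilizer (Submodule.span F {v}))
    (hdim : (Fintype.card ι = 2 * m ∧ IsPlus Q) ∨ ((2 : F) ≠ 0 ∧ Fintype.card ι = 2 * m + 1 ∧
      ¬ IsPlus (res Q (perp Q (Submodule.span F {v}))))) : False := by
  have hfin : Finite (POmega F (⇑Q)) := Quotient.finite _
  have hlt := hr.lt (by omega)
  have hF := Fact.mk hr.prime
  have hr2 : r ≠ 2 := by omega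
  have hodd : Odd r := hr.prime.odd_of_ne_two hr2
  have hne := hr.ne0 (F := F) (by omega)
  have hv0 : v ≠ 0 := by
    rintro rfl
    exact hv (QuadraticMap.map_zero Q)
  have hcard : 2 * m ≤ Fintype.card ι := by omega
  have hcard' : Fintype.card ι ≤ 2 * m + 1 := by omega
  have hcoe : ∀ x : Omega F (⇑Q), rep (⇑Q) x = lin ((x : isometryGroup F (⇑Q)) : GL ι F) := fun x => rfl
  -- base: elements with large commutator space do not fix `v`
  have base : ∀ z : Omega F (⇑Q), z ^ r = 1 → 2 * m ≤ finrank F (cm (rep (⇑Q) z)) → rep (⇑Q) z v ≠ v := by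
    intro z hz hzd hzv
    have hzr : rep (⇑Q) z ^ r = 1 := by rw [← map_pow, hz, map_one]
    have hiso : Iso Q (rep (⇑Q) z) r := Iso.mk' hr (by omega) hzr (rep_iso z)
    have hadd := hiso.finrank_add
    rw [finrank_V] at hadd
    have hvf : v ∈ fx (rep (⇑Q) z) := mem_fx.2 hzv
    have hle : Submodule.span F {v} ≤ fx (rep (⇑Q) z) := by
      rw [Submodule.span_singleton_le_iff_mem]
      exact hvf
    have hs1 := finrank_span_singleton (K := F) hv0
    have hmono := Submodule.finrank_mono hle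
    rcases hdim with ⟨h1, -⟩ | ⟨-, h1, hP⟩
    · omega
    · have heq : Submodule.span F {v} = fx (rep (⇑Q) z) :=
        Submodule.eq_of_le_of_finrank_eq hle (by omega)
      rw [heq, perp_fx hQ hiso.iso hiso.ne0 hiso.pow] at hP
      exact hP (hiso.even_two hQ hr hme (by omega))
  -- conjugates
  have base' : ∀ z : Omega F (⇑Q), z ^ r = 1 → 2 * m ≤ finrank F (cm (rep (⇑Q) z)) → ∀ w, Q w = Q v →
      rep (⇑Q) z w ≠ w := by
    intro z hz hzd w hw hzw
    obtain ⟨g, hg⟩ := trans_omega hQ (by omega) hv hw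
    refine base (g⁻¹ * z * g⁻¹⁻¹) (by rw [conj_pow, hz, mul_one, mul_inv_cancel]) ?_ ?_
    · have h1 := finrank_cm_conj (F := F) ((g⁻¹ : Omega F (⇑Q)) : isometryGroup F (⇑Q)).1 (z : isometryGroup F (⇑Q)).1
      rw [hcoe] at hzd ⊢
      rw [← h1] at hzd
      exact hzd
    · rw [inv_inv, rho_mul, rho_mul, hg, hzw, ← hg, rho_inv']
  -- the data
  have hcfg : Cfg Q (Q v) r m (QuotientGroup.mk' (Subgroup.center (Omega F (⇑Q)))) (rep (⇑Q)) A := by
    refine ⟨⟨hr.prime, by omega, hne, ord_eq hr⟩, by omega, QuotientGroup.mk'_surjective _, ?_, rep_injective _,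
      rep_iso, hQ, ?_, hv, by rw [finrank_V]; exact hcard, fun Z hZ h3 d => exists_norm_mem hZ h3 d, base'⟩
    · intro k hk
      have h1 : k ∈ Subgroup.center (Omega F (⇑Q)) := (QuotientGroup.eq_one_iff k).1 hk
      exact ⟨H390.Lift.center_sq hD k h1, fun g => (Subgroup.mem_center_iff.1 h1 g).symm⟩
    · have key : ∀ w, Q w = Q v → ∃ a : Omega F (⇑Q), QuotientGroup.mk' (Subgroup.center (Omega F (⇑Q))) a ∈ A ∧
          (rep (⇑Q) a v = w ∨ rep (⇑Q) a v = -w) := by
        intro w hw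
        obtain ⟨g, hg⟩ := trans_omega hQ (by omega) hv hw
        obtain ⟨a, ha, b, hb, hab⟩ := hf.fac (QuotientGroup.mk' _ g)
        obtain ⟨a, rfl⟩ := QuotientGroup.mk'_surjective _ a
        have h1 : QuotientGroup.mk' (Subgroup.center (Omega F (⇑Q))) (a⁻¹ * g) ∈ M := by
          rw [map_mul, map_inv, hab, inv_mul_cancel_left]
          exact hb
        refine ⟨a, ha, ?_⟩
        have h2 : rep (⇑Q) (a⁻¹ * g) v = rep (⇑Q) a⁻¹ w := by rw [rho_mul, hg]
        rcases pm_of_mem hv hM h1 with h3 | h3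
        · left
          rw [h2] at h3
          rw [← h3, rho_inv]
        · right
          rw [h2] at h3
          have h4 : v = - rep (⇑Q) a⁻¹ w := by rw [h3, neg_neg]
          conv_lhs => rw [h4]
          rw [map_neg, rho_inv]
      intro u w hu hw
      obtain ⟨a, ha, hau⟩ := key u hu
      obtain ⟨b, hb, hbw⟩ := key w hw
      refine ⟨b * a⁻¹, by rw [map_mul, map_inv]; exact A.mul_mem hb (A.inv_mem ha), ?_⟩
      have h1 : rep (⇑Q) a⁻¹ u = v ∨ rep (⇑Q) a⁻¹ u = -v := by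
        rcases hau with h2 | h2
        · left; rw [← h2, rho_inv']
        · right
          have h3 : u = - rep (⇑Q) a v := by rw [h2, neg_neg]
          rw [h3, map_neg, rho_inv']
      rw [rho_mul]
      rcases h1 with h1 | h1
      · rw [h1]
        exact hbw
      · rw [h1, map_neg]
        rcases hbw with h2 | h2
        · right; rw [h2]
        · left; rw [h2, neg_neg]
  -- `r` divides `|S|`
  have hrS : r ∣ Nat.card S := by
    by_contra hn
    have hidx : ¬ r ∣ M.index := fun h => hn (hr.prime.dvd_of_dvd_pow (h.trans hf.index_dvd))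
    obtain ⟨g, hg, hgr, hg1, hgd⟩ := exists_g (A := 2) hQ hr hme (by omega) (by omega) (by
      rcases hdim with ⟨h1, h2⟩ | ⟨h1, h2, -⟩
      · exact Or.inl ⟨by rw [h1]; exact even_two_mul m, Or.inr ⟨by omega, iff_of_true h2 (by decide)⟩⟩
      · exact Or.inr ⟨h1, by omega⟩)
    obtain ⟨x, rfl⟩ := exists_omega hD hg hodd hgr
    have hx : x ^ r = 1 := Subtype.ext (Subtype.ext hgr)
    have hx1 : x ≠ 1 := by
      rintro rfl
      exact hg1 rfl
    obtain ⟨t, ht⟩ := exists_conj_mem hr.prime hidx (orderOf_mk hD hr.prime hr2 hx hx1)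
    obtain ⟨c, rfl⟩ := QuotientGroup.mk'_surjective _ t
    have hz : (c⁻¹ * x * c⁻¹⁻¹) ^ r = 1 := by rw [conj_pow, hx, mul_one, mul_inv_cancel]
    have hzM : QuotientGroup.mk' (Subgroup.center (Omega F (⇑Q))) (c⁻¹ * x * c⁻¹⁻¹) ∈ M := by
      rw [inv_inv, map_mul, map_mul, map_inv]
      exact ht
    have hzd : 2 * m ≤ finrank F (cm (rep (⇑Q) (c⁻¹ * x * c⁻¹⁻¹))) := by
      have h1 := finrank_cm_conj (F := F) ((c⁻¹ : Omega F (⇑Q)) : isometryGroup F (⇑Q)).1 (x : isometryGroup F (⇑Q)).1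
      rw [hgd] at h1
      have h2 : finrank F (cm (rep (⇑Q) (c⁻¹ * x * c⁻¹⁻¹))) = m * 2 := h1
      omega
    rcases pm_of_mem hv hM hzM with h3 | h3
    · exact base _ hz hzd h3
    · -- `z v = - v`, `z` of odd order
      have h4 : ∀ k : ℕ, rep (⇑Q) ((c⁻¹ * x * c⁻¹⁻¹) ^ (2 * k)) v = v := by
        intro k
        induction k with
        | zero => rw [mul_zero, pow_zero, map_one]; rfl
        | succ k ih =>
          rw [show 2 * (k + 1) = 2 * k + 1 + 1 by ring, pow_succ, pow_succ, rho_mul, rho_mul, h3, map_neg, h3,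
            neg_neg, ih]
      obtain ⟨k, hk⟩ := hodd
      have h5 := h4 k
      have h6 : rep (⇑Q) ((c⁻¹ * x * c⁻¹⁻¹) ^ (2 * k + 1)) v = -v := by rw [pow_succ, rho_mul, h3, map_neg, h5]
      rw [← hk, hz, map_one] at h6
      have h7 : v = -v := h6
      exact base _ hz hzd (by rw [h3, ← h7])
  obtain ⟨S₁, S₂, hT, hc1, hc2⟩ := hf.twoFac hS hSna
  have hd₁ : r ∣ Nat.card S₁ := by rw [hc1]; exact hrS
  have hd₂ : r ∣ Nat.card S₂ := by rw [hc2]; exact hrS
  rcases hdim with ⟨h1, -⟩ | ⟨h2, h1, -⟩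
  · exact hcfg.false_even hT (by rw [finrank_V, h1]) hd₁ hd₂
  · obtain ⟨x₀, hx₀⟩ := exists_prime_orderOf_dvd_card' r hd₂
    obtain ⟨x, hx, hxr, hx1⟩ := hcfg.lift_ne (t := (x₀ : POmega F (⇑Q))) (by rw [Subgroup.orderOf_coe, hx₀])
    obtain ⟨y₀, hy₀⟩ := exists_prime_orderOf_dvd_card' r hd₁
    obtain ⟨y, hy, hyr, hy1⟩ := hcfg.lift_ne (t := (y₀ : POmega F (⇑Q))) (by rw [Subgroup.orderOf_coe, hy₀])
    exact hcfg.false_odd h2 hT (by rw [finrank_V, h1]) (by rw [hx]; exact x₀.2) hxr hx1 (by rw [hy]; exact y₀.2)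
      hyr hy1

end Cfsg.Agent.H899.Pt
end
end

-- part: H899/Pt/Env
section
set_option linter.all false
open scoped Cfsg.Agent.FastGrp

/-!
# Factorizations: elements of order `r` of the factors, general representation (helper899, S3679)

* `Env` : `G → T` (central kernel of exponent two), `G ≤ GL(V)`, `r` a prime with `ord_r(q) = n ≥ 3`, `dim V ≤ 2 n + 1`;
* `Env.dich` : the elements of order `r` of `S₁`, `S₂` all have `dim [V, x] = n`, or all have `dim [V, x] = 2 n`;
* `noR` : if the elements of order `r` of `S₁` and `S₂` are `T`-conjugate (up to powers) and `T = A M`, `M` without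
  `C_r × C_r`, then `M` contains no element of order `r` of `S₁` or `S₂`;
* `noR'` : nor any element of order `r` conjugate to an element of `S₁` or `S₂`.
-/

set_option autoImplicit false
set_option linter.unusedSectionVars false
set_option linter.unusedVariables false

namespace Cfsg.Agent.H899.Pt

open Module Cfsg.Agent.H951 Cfsg.Agent.H884.Cg Cfsg.Agent.H899.CG

section Conj

variable {T : Type*} [Group T] [Finite T] {A M S₁ S₂ : Subgroup T} {r : ℕ}

/-- no element of order `r` of `S₁` in `M` -/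
theorem noR (hr : r.Prime) (hS : TwoFac A S₁ S₂) (hf : ∀ t : T, ∃ a ∈ A, ∃ m ∈ M, t = a * m) (hM : NoSq M r)
    (hd : r ∣ Nat.card S₂)
    (hc : ∀ x ∈ S₂, ∀ y ∈ S₁, orderOf x = r → orderOf y = r → ∃ t : T, t * y * t⁻¹ ∈ Subgroup.zpowers x) :
    ∀ y ∈ S₁, y ∈ M → orderOf y ≠ r := by
  intro y hy hyM hyr
  have := Fact.mk hr
  obtain ⟨x, hx⟩ := exists_prime_orderOf_dvd_card' r hd
  obtain ⟨t, ht⟩ := hc x x.2 y hy (by rw [Subgroup.orderOf_coe, hx]) hyr
  have h1 : t * y * t⁻¹ ∈ S₂ := (Subgroup.zpowers_le.2 x.2) ht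
  obtain ⟨a, ha, hay⟩ := gp hr hf hM (hS.le₁ hy) hyM hyr (hS.le₂ h1)
  have h2 : a * y * a⁻¹ ∈ S₂ := (Subgroup.zpowers_le.2 h1) hay
  have h3 := hS.inf (hS.norm₁ a ha y hy) h2
  rw [mul_inv_eq_one] at h3
  have h4 : y = 1 := by
    have : a * y = a * 1 := by rw [h3, mul_one]
    exact mul_left_cancel this
  rw [h4, orderOf_one] at hyr
  exact hr.one_lt.ne hyr

theorem _root_.Cfsg.Agent.H899.Pt.NoSq.conj (h : NoSq M r) (g : T) :
    NoSq (M.map (MulAut.conj g).toMonoidHom) r := by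
  rintro _ ⟨x, hx, rfl⟩ _ ⟨y, hy, rfl⟩ hxr hyr hc
  have hi : Function.Injective (MulAut.conj g).toMonoidHom := (MulAut.conj g).injective
  rw [orderOf_injective _ hi] at hxr hyr
  have h1 : x * y = y * x := hi (by rw [map_mul, map_mul]; exact hc)
  obtain ⟨k, hk⟩ := Subgroup.mem_zpowers_iff.1 (h x hx y hy hxr hyr h1)
  exact Subgroup.mem_zpowers_iff.2 ⟨k, by rw [← map_zpow, hk]⟩

/-- no element of `M` is conjugate to an element of order `r` of `S₁` -/
theorem noR' {S : Type*} [Group S] {l : ℕ} (hr : r.Prime) (hS : TwoFac A S₁ S₂) (hf : Fac T A M S l) (hM : NoSq M r)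
    (hd : r ∣ Nat.card S₂)
    (hc : ∀ x ∈ S₂, ∀ y ∈ S₁, orderOf x = r → orderOf y = r → ∃ t : T, t * y * t⁻¹ ∈ Subgroup.zpowers x)
    {y t : T} (hy : y ∈ S₁) (hyr : orderOf y = r) : t * y * t⁻¹ ∉ M := by
  intro hyM
  refine noR hr hS (hf.conj t⁻¹).fac (hM.conj t⁻¹) hd hc y hy ⟨t * y * t⁻¹, hyM, ?_⟩ hyr
  show t⁻¹ * (t * y * t⁻¹) * t⁻¹⁻¹ = y
  group

end Conj

variable {T G : Type*} [Group T] [Group G] {F : Type*} [Field F] [Fintype F] {V : Type*} [AddCommGroup V] [Module F V]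
  [FiniteDimensional F V]

/-- the data -/
structure Env (r n : ℕ) (π : G →* T) (ρ : G →* Module.End F V) : Prop where
  rd : RD F r n
  n3 : 3 ≤ n
  surj : Function.Surjective π
  ker : ∀ k, π k = 1 → k ^ 2 = 1 ∧ ∀ g, k * g = g * k
  inj : Function.Injective ρ
  dim : finrank F V ≤ 2 * n + 1

variable {r n : ℕ} {π : G →* T} {ρ : G →* Module.End F V} {A S₁ S₂ : Subgroup T}

theorem Env.odd (h : Env r n π ρ) : Odd r := h.rd.prime.odd_of_ne_two (by have := h.rd.two_lt; omega)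

theorem Env.rpow (h : Env r n π ρ) {x : G} (hx : x ^ r = 1) : ρ x ^ r = 1 := by rw [← map_pow, hx, map_one]

theorem Env.rne (h : Env r n π ρ) {x : G} (hx : x ≠ 1) : ρ x ≠ 1 := fun h1 => hx (h.inj (by rw [h1, map_one]))

theorem Env.pne (h : Env r n π ρ) {x : G} (hx : x ^ r = 1) (hx1 : x ≠ 1) : π x ≠ 1 := by
  intro h1
  obtain ⟨h2, -⟩ := h.ker x h1
  obtain ⟨j, hj⟩ := h.odd
  apply hx1
  rw [hj, pow_succ, pow_mul, h2, one_pow, one_mul] at hx
  exact hx

theorem Env.porder (h : Env r n π ρ) {x : G} (hx : x ^ r = 1) (hx1 : x ≠ 1) : orderOf (π x) = r := by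
  have := Fact.mk h.rd.prime
  exact orderOf_eq_prime (by rw [← map_pow, hx, map_one]) (h.pne hx hx1)

theorem Env.comm (h : Env r n π ρ) {g x : G} (hx : x ^ r = 1) (hc : π x * π g = π g * π x) : x * g = g * x :=
  comm_lift h.odd π h.ker hx hc

theorem Env.comm' (h : Env r n π ρ) {g x : G} (hx : x ^ r = 1) (hc : π x * π g = π g * π x) :
    Commute (ρ x) (ρ g) := by
  show ρ x * ρ g = ρ g * ρ x
  rw [← map_mul, h.comm hx hc, map_mul]

theorem Env.lift (h : Env r n π ρ) {t : T} (ht : t ^ r = 1) : ∃ g, π g = t ∧ g ^ r = 1 := by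
  obtain ⟨g, rfl⟩ := h.surj t
  obtain ⟨j, hj⟩ := h.odd
  refine ⟨g ^ (r + 1), by rw [map_pow, pow_succ, ht, one_mul], ?_⟩
  have h1 := (h.ker (g ^ r) (by rw [map_pow, ht])).1
  rw [← pow_mul, mul_comm, pow_mul, show r + 1 = 2 * (j + 1) by omega, pow_mul, h1, one_pow]

theorem Env.lift_ne (h : Env r n π ρ) {t : T} (ht : orderOf t = r) :
    ∃ g, π g = t ∧ g ^ r = 1 ∧ g ≠ 1 := by
  obtain ⟨g, h1, h2⟩ := h.lift (t := t) (by rw [← ht, pow_orderOf_eq_one])
  refine ⟨g, h1, h2, ?_⟩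
  rintro rfl
  rw [map_one] at h1
  rw [← h1, orderOf_one] at ht
  exact h.rd.prime.one_lt.ne ht

theorem Env.injE (h : Env r n π ρ) (g : G) : Function.Injective (ρ g) := by
  intro u v huv
  have h1 := congrArg (ρ g⁻¹) huv
  rwa [← Module.End.mul_apply, ← Module.End.mul_apply, ← map_mul, inv_mul_cancel, map_one] at h1

/-- the type -/
theorem Env.type (h : Env r n π ρ) {x : G} (hx : x ^ r = 1) (hx1 : x ≠ 1) :
    finrank F (cm (ρ x)) = n ∨ finrank F (cm (ρ x)) = 2 * n := by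
  obtain ⟨k, hk⟩ := h.rd.dvd_cm (h.rpow hx)
  have h1 := h.rd.le_cm (h.rpow hx) (h.rne hx1)
  have h2 : finrank F (cm (ρ x)) ≤ finrank F V := Submodule.finrank_le _
  have hn3 := h.n3
  have hd := h.dim
  have h3 : k < 3 := by
    by_contra hcon
    have := Nat.mul_le_mul_left n (show 3 ≤ k by omega)
    omega
  have h4 : k ≠ 0 := by
    rintro rfl
    omega
  have h5 : k = 1 ∨ k = 2 := by omega
  rcases h5 with rfl | rfl
  · left; omega
  · right; omega

/-- `x ∈ S₂`, `y ∈ S₁` of order `r`, `Z` invariant of dimension `n`, `x` fixed point free on `Z`: `y` is trivial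
on `Z`. -/
theorem Env.triv (h : Env r n π ρ) (hS : TwoFac A S₁ S₂) {x y : G} (hx : π x ∈ S₂) (hxr : x ^ r = 1)
    (hy : π y ∈ S₁) (hyr : y ^ r = 1) {Z : Submodule F V} (hZx : Inv (ρ x) Z)
    (hZ : ∀ g, π g ∈ S₁ → Inv (ρ g) Z) (hd : finrank F Z = n) (hf : Z ⊓ fx (ρ x) = ⊥) : Z ≤ fx (ρ y) := by
  have hxy : Commute (ρ y) (ρ x) := (h.comm' hxr (hS.comm _ hy _ hx).symm).symm
  obtain ⟨i, hi, hZi⟩ := h.rd.exists_triv (h.rpow hyr) (h.rpow hxr) hxy (hZ y hy) hZx hd hf
  refine lemC h.odd π h.surj h.ker ρ hS.simple₁ hS.na₁ hy hyr hZ fun g hg v hv => ?_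
  -- `ρ y = ρ (x ^ i)⁻¹` on `Z`
  have key : ∀ w ∈ Z, ρ y w = ρ (x ^ i)⁻¹ w := by
    intro w hw
    have h1 := mem_fx.1 (hZi hw)
    rw [← map_pow, ← map_mul] at h1
    have h2 : y * x ^ i = x ^ i * y := by
      have h3 := h.comm hxr (hS.comm _ hy _ hx).symm
      exact ((show Commute x y from h3).pow_left i).symm
    rw [h2, map_mul, Module.End.mul_apply] at h1
    conv_rhs => rw [← h1]
    rw [← Module.End.mul_apply, ← map_mul, inv_mul_cancel, map_one]
    rfl
  have hgx : g * (x ^ i)⁻¹ = (x ^ i)⁻¹ * g := by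
    have h3 := h.comm hxr (hS.comm _ hg _ hx).symm
    exact (((show Commute x g from h3).pow_left i).inv_left.symm).eq
  rw [map_mul, map_mul, Module.End.mul_apply, Module.End.mul_apply, key _ (hZ g hg v hv), key v hv,
    ← Module.End.mul_apply, ← Module.End.mul_apply, ← map_mul, ← map_mul, hgx]

/-- one element `x ∈ S₂` of type `n`: `S₁` (its elements of order `r`) is trivial on `[V, x]`, of type `n` -/
theorem Env.small (h : Env r n π ρ) (hS : TwoFac A S₁ S₂) {x y : G} (hx : π x ∈ S₂) (hxr : x ^ r = 1)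
    (hdx : finrank F (cm (ρ x)) = n) (hy : π y ∈ S₁) (hyr : y ^ r = 1) (hy1 : y ≠ 1) :
    cm (ρ x) ≤ fx (ρ y) ∧ cm (ρ y) ≤ fx (ρ x) ∧ finrank F (cm (ρ y)) = n := by
  have h1 : cm (ρ x) ≤ fx (ρ y) := by
    refine h.triv hS hx hxr hy hyr inv_cm (fun g hg => ?_) hdx (inf_fx_of_le_cm h.rd.ne0 (h.rpow hxr) le_rfl)
    exact inv_cm_of_commute (h.comm' hxr (hS.comm _ hg _ hx).symm).symm
  have h2 : cm (ρ y) ≤ fx (ρ x) :=
    cm_le_fx h.rd.ne0 (h.rpow hxr) (h.comm' hxr (hS.comm _ hy _ hx).symm).symm h1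
  refine ⟨h1, h2, ?_⟩
  have h3 := Submodule.finrank_mono h2
  have h4 := finrank_fx_add_cm h.rd.ne0 (h.rpow hxr)
  have hn3 := h.n3
  have hd := h.dim
  rcases h.type hyr hy1 with h5 | h5
  · exact h5
  · omega

/-- **dichotomy** -/
theorem Env.dich [Finite T] (h : Env r n π ρ) (hS : TwoFac A S₁ S₂) (hd₁ : r ∣ Nat.card S₁) (hd₂ : r ∣ Nat.card S₂) :
    (∀ x, π x ∈ S₁ ∨ π x ∈ S₂ → x ^ r = 1 → x ≠ 1 → finrank F (cm (ρ x)) = n) ∨
      (∀ x, π x ∈ S₁ ∨ π x ∈ S₂ → x ^ r = 1 → x ≠ 1 → finrank F (cm (ρ x)) = 2 * n) := by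
  have hF := Fact.mk h.rd.prime
  obtain ⟨x₀, hx₀⟩ := exists_prime_orderOf_dvd_card' r hd₂
  obtain ⟨x, hx, hxr, hx1⟩ := h.lift_ne (t := (x₀ : T)) (by rw [Subgroup.orderOf_coe, hx₀])
  have hxS : π x ∈ S₂ := by rw [hx]; exact x₀.2
  obtain ⟨y₀, hy₀⟩ := exists_prime_orderOf_dvd_card' r hd₁
  obtain ⟨y, hy, hyr, hy1⟩ := h.lift_ne (t := (y₀ : T)) (by rw [Subgroup.orderOf_coe, hy₀])
  have hyS : π y ∈ S₁ := by rw [hy]; exact y₀.2
  have hn3 := h.n3
  by_cases hex : ∃ z, (π z ∈ S₁ ∨ π z ∈ S₂) ∧ z ^ r = 1 ∧ z ≠ 1 ∧ finrank F (cm (ρ z)) = n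
  · left
    obtain ⟨z, hzS, hzr, hz1, hzd⟩ := hex
    -- both `x` and `y` are of type `n`
    have hxy : finrank F (cm (ρ x)) = n ∧ finrank F (cm (ρ y)) = n := by
      rcases hzS with hzS | hzS
      · have h1 := (h.small hS.symm hzS hzr hzd hxS hxr hx1).2.2
        exact ⟨h1, (h.small hS hxS hxr h1 hyS hyr hy1).2.2⟩
      · have h1 := (h.small hS hzS hzr hzd hyS hyr hy1).2.2
        exact ⟨(h.small hS.symm hyS hyr h1 hxS hxr hx1).2.2, h1⟩
    intro w hw hwr hw1
    rcases hw with hw | hw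
    · exact (h.small hS hxS hxr hxy.1 hw hwr hw1).2.2
    · exact (h.small hS.symm hyS hyr hxy.2 hw hwr hw1).2.2
  · right
    intro w hw hwr hw1
    rcases h.type hwr hw1 with h1 | h1
    · exact absurd ⟨w, hw, hwr, hw1, h1⟩ hex
    · exact h1

end Cfsg.Agent.H899.Pt
end
end
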